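import Cfsg.Agent.P3.B

/-! A strongly closed `V` with solvable involution centralizers is normal. -/

set_option autoImplicit false
set_option linter.unusedVariables false
set_option linter.unusedSectionVars false

namespace P3

open Cfsg Subgroup FT H4 H5 GW A8
open H2 (F4)
open MT (Cj o2 isConj_mk cj_top cj_mk ext0 zstar_in conj_in2)
open H5.Dich (cl th)

universe u

variable {G : Type u} [Group G] [Finite G]

theorem solv_cj {x y : G} (e : IsConj x y) (h : Group.IsSolvable (Cen1 x)) :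
    Group.IsSolvable (Cen1 y) := by
  obtain ⟨g, rfl⟩ := isConj_iff.1 e
  rw [← conj_c1]
  exact Group.isSolvable_of_surjective (f := (conjSEquiv g (Cen1 x)).toMonoidHom)
    (conjSEquiv g _).surjective

theorem nocomp {H K : Subgroup G} (h : Group.IsSolvable H) (hK : PCompIn 2 H K) : False :=
  hK.pqs.not_le_of_isSolvable h hK.le

theorem odd_cl {V : Subgroup G} (hV : IsElementaryAbelian 2 V) (h8 : 2 ^ 3 ≤ Nat.card V)
    (hs : ∀ a ∈ V, a ≠ 1 → Group.IsSolvable (Cen1 a)) : Odd (Nat.card (cl V)) := by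
  have s := SS.core_sig hV (fun a _ _ => odd_solv (odd_Oo _)) fun a ha _ b hb b1 =>
    SS.core_balance (isPConstrained_of_isSolvable (hs b hb b1))
      ((isPGroup_of_elem hV).to_le (zpowers_le.2 ha)) (c1.2 (comm_of_isMulCommutative hV.1 ha hb))
  exact Nat.odd_iff.2 (Nat.two_dvd_ne_zero.1 (fam_not_dvd ((SS.ssft hV h8 s).closure_mem s)))

theorem ncl (V : Subgroup G) : Nor V ≤ Nor (cl V) := fun g hg => by
  rw [mem_normalizer_iff_conjS, Dich.conjS_cl, mem_normalizer_iff_conjS.1 hg]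

/-- elements of `W` outside the centre -/
def Wc (j : T3 →* G) (w : G) : Prop := ∃ b d, b ≠ 0 ∧ w = jt j ⟨b, 0, d⟩

variable {j : T3 →* G} (h : SJ j)
include h

theorem f4Z : GW.F4 (j ⟨0, 0, 1⟩) (j ⟨0, 0, om⟩) :=
  ⟨oz h one_ne_zero, oz h (by decide), by rw [← map_mul, ← map_mul]; exact congrArg j (by decide),
    fun e => absurd (h.inj e) (by decide)⟩

theorem genZ {K M : Subgroup G} (hK : ZZ j ≤ Nor K) (ho : Odd (Nat.card K))
    (hM : ∀ z ∈ ZZ j, z ≠ 1 → Cen1 z ≤ M) : K ≤ M :=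
  have f := f4Z h
  f.gen (hK (mZ j _)) (hK (mZ j _)) ho (inf_le_right.trans (hM _ (mZ j _) (ine f.ht)))
    (inf_le_right.trans (hM _ (mZ j _) (ine f.ha)))
    (inf_le_right.trans (hM _ (mul_mem (mZ j _) (mZ j _)) (ine f.hta)))

theorem scl {R : Subgroup G} (f' : ¬ FV (jt j)) (hR : ∀ a ∈ VV j, a ≠ 1 → Uo a ≤ R)
    (hs : ∀ a ∈ VV j, a ≠ 1 → Group.IsSolvable (Cen1 a)) :
    SCl j.range (VV j) (R ⊔ Nor (VV j)) := by
  have k : ∀ z ∈ ZZ j, z ≠ 1 → Cen1 z ≤ R ⊔ Nor (VV j) := fun z hz z1 =>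
    (cz_le h hz z1).trans (sup_le_sup (hR z (ZV j hz) z1) (NSV h))
  refine ⟨h.syl, fun x => sqV, (SV j).trans le_sup_right, fun x hx y => scV h f' hx,
    fun x hx y hy e => (ctl h hx hy e).mono le_sup_right, fun x hx x1 => ?_⟩
  by_cases f : FV j
  · obtain ⟨z, hz, e⟩ := f.all h hx
    exact cen_cj (e.mono le_sup_right) (k z hz fun z1 => x1 (by
      obtain ⟨g, -, rfl⟩ := e; simp [z1]))
  obtain ⟨a, c, rfl⟩ := exV hx
  by_cases a0 : a = 0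
  · exact k _ (a0 ▸ mZ j c) x1
  exact (asV h f a0 c).le_of ((hR _ hx x1).trans le_sup_left)
    (fun K hK => (nocomp (hs _ hx x1) hK).elim) (inf_le_right.trans le_sup_right)

theorem inZ_of {R : Subgroup G} (ho : Odd (Nat.card R)) (hn : j.range ≤ Nor R) {x w : G}
    (hx : x ∈ VV j ⊔ R) (hw : Wc j w) (c : x ∈ Cen1 w) : x ∈ ZZ j ⊔ R := by
  obtain ⟨_, hv, r, hr, rfl⟩ := (mem_sup_right_iff ((mapS j _).trans hn)).1 hx
  obtain ⟨a, c', rfl⟩ := exV hv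
  obtain ⟨b, d, b0, rfl⟩ := hw
  refine mul_mem (mem_sup_left ?_) (mem_sup_right hr)
  have m : jt j ⟨b, 0, d⟩ ∈ j.range := ⟨_, rfl⟩
  have : (j ⟨a, 0, c'⟩)⁻¹ * (jt j ⟨b, 0, d⟩ * j ⟨a, 0, c'⟩ * (jt j ⟨b, 0, d⟩)⁻¹) ∈ j.range ⊓ R := by
    refine mem_inf.2 ⟨mul_mem (inv_mem ⟨_, rfl⟩) (mul_mem (mul_mem m ⟨_, rfl⟩) (inv_mem m)), ?_⟩
    refine mem_of_eq (mul_mem hr (inv_mem (cmem (hn m) hr))) ?_
    have e := c1'.1 (c1s.1 c)
    rw [← conj_mul] at e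
    rw [eq_mul_inv_of_mul_eq e]; group
  rw [W.two_odd h.syl.isPGroup ho, mem_bot, inv_mul_eq_one, eq_mul_inv_iff_mul_eq] at this
  exact ⟨_, mem_Z0.2 ⟨(by decide +kernel : ∀ a c b d : F4, b ≠ 0 → (⟨a, 0, c⟩ : T3) * tau ⟨b, 0, d⟩ =
    tau ⟨b, 0, d⟩ * ⟨a, 0, c⟩ → a = 0) a c' b d b0 (h.comm.1 (c1.2 this)), rfl⟩, rfl⟩

theorem normV (hO : oddCore G = ⊥) (f' : ¬ FV (jt j))
    (hs : ∀ a ∈ VV j, a ≠ 1 → Group.IsSolvable (Cen1 a)) : Nor (VV j) = ⊤ := by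
  have oR := odd_cl (elemV j) (by rw [card_V h]; norm_num) hs
  have nR := ncl (VV j)
  have s := scl h (R := cl (VV j)) f' (fun a ha a1 => SS.le_closure' (θ := th) ha a1) hs
  generalize cl (VV j) = R at *
  have MR : R ⊔ Nor (VV j) ≤ Nor R := sup_le le_normalizer nR
  by_cases hM : R ⊔ Nor (VV j) = ⊤
  · have := le_Oo le_top (hM ▸ MR) oR
    rw [show Oo (⊤ : Subgroup G) = ⊥ from (pPrimeCoreIn_top 2).trans hO, le_bot_iff] at this
    rwa [this, bot_sup_eq] at hM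
  exfalso
  have MV : R ⊔ Nor (VV j) ≤ Nor (VV j ⊔ R) := sup_le (lnor le_sup_right) (nsup le_rfl nR)
  have NM : Nor (VV j) ≤ R ⊔ Nor (VV j) := le_sup_right
  generalize R ⊔ Nor (VV j) = M at *
  have h' := sjt h
  have cz : ∀ z ∈ ZZ j, z ≠ 1 → Cen1 z ≤ M := fun z hz => s.cen z (ZV j hz)
  have o := oz h one_ne_zero
  have vz : Vc (VV j) (j ⟨0, 0, 1⟩) := ⟨_, mV j 0 1, ine o, IsConj.refl _⟩
  have zM : j ⟨0, 0, 1⟩ ∈ M := s.SM ⟨_, rfl⟩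
  obtain ⟨b, d, b0, hw⟩ : ∃ b d, b ≠ 0 ∧ ¬ Cen1 (jt j ⟨b, 0, d⟩) ≤ M := by
    by_contra! hn
    have se := W.se_crit h.syl (W.ne_bot_of ⟨_, rfl⟩ (ine o)) hM ((NSV h).trans NM) (by
      rintro _ ⟨x, rfl⟩ ox
      by_cases b0 : x.b = 0
      · exact s.cen _ ⟨x, mem_V0.2 b0, rfl⟩ (ine ox)
      have := hn x.b x.c b0
      rwa [show jt j ⟨x.b, 0, x.c⟩ = j x from congrArg j (T3.ext
        ((inv_cases x (h.of_ord ox).1).resolve_right b0).symm rfl (by simp [tau_def]))] at this)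
    obtain ⟨g, -, e⟩ := BS.oc_top_of_se se _ (mem_top _) _ (mem_top _) ⟨ine o, ii o⟩
      ⟨ine (ov h' one_ne_zero 0), ii (ov h' one_ne_zero 0)⟩
    exact f' ⟨1, 0, 1, one_ne_zero, by
      rw [jt_Z j (mem_Z0.2 ⟨rfl, rfl⟩), ← e]; exact isConj_mk _ _⟩
  have as := asV h' f' b0 d
  have ZW : ZZ j ≤ VV (jt j) := ZZ_jt j ▸ ZV (jt j)
  obtain ⟨K, hK, KM⟩ : ∃ K, PCompIn 2 (Cen1 (jt j ⟨b, 0, d⟩)) K ∧ ¬ K ≤ M := by
    by_contra! hn
    exact hw (as.le_of (genZ h ((ZW.trans as.le).trans (lOo _)) (odd_Oo _) cz) hn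
      (inf_le_right.trans ((NVZ h' f').trans (ZZ_jt j ▸ (NZ_le h).trans (sup_le
        (((W.Oo_le _).trans (CZ_le h (mZ j 1))).trans (cz _ (mZ j 1) (ine o))) ((NSV h).trans NM))))))
  have eK := (comp h' f' b0 hK).trans (ZZ_jt j)
  have k : ∀ a, ∃ x, jt j ⟨a, 0, x⟩ ∈ W.CM K := fun a => by
    obtain ⟨s, hs, c, hc, e⟩ := as.dec hK (mV _ a 0)
    obtain ⟨x, rfl⟩ := exZ (j := jt j) ((comp h' f' b0 hK).le hs)
    refine ⟨x, mem_of_eq hc.2 ?_⟩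
    rw [eq_inv_mul_of_mul_eq e, ← map_inv, ← map_mul]
    exact congrArg _ (by simp [T3.mul_def, T3.inv_def])
  obtain ⟨x, hx⟩ := k 1
  obtain ⟨y, hy⟩ := k om
  have f4 : GW.F4 (jt j ⟨1, 0, x⟩) (jt j ⟨om, 0, y⟩) := ⟨ov h' one_ne_zero x, ov h' (by decide) y,
    c1.1 (VC _ (mV _ _ _) (mV _ _ _)), fun e => absurd (congrArg T3.a (h'.inj e)) (by simp; decide)⟩
  have wc : ∀ u ∈ V4 (jt j ⟨1, 0, x⟩) (jt j ⟨om, 0, y⟩), u ≠ 1 → Wc j u := fun u hu u1 => by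
    rcases f4.mem_V.1 hu with rfl | rfl | rfl | rfl
    · exact (u1 rfl).elim
    · exact ⟨_, _, one_ne_zero, rfl⟩
    · exact ⟨_, _, by decide, rfl⟩
    · exact ⟨1 + om, x + y, by decide +kernel, by
        rw [← map_mul]; exact congrArg _ (by simp [T3.mul_def])⟩
  have UW : V4 _ _ ≤ VV (jt j) := V_le (mV _ 1 x) (mV _ om y)
  have w1 := t_V (jt j ⟨1, 0, x⟩) (jt j ⟨om, 0, y⟩)
  have w2 := a_V (jt j ⟨1, 0, x⟩) (jt j ⟨om, 0, y⟩)
  have UC := V_le hx hy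
  have cU := f4.card_V
  have mU := f4.comm_V
  have pU := f4.two_V
  generalize jt j ⟨1, 0, x⟩ = p at *
  generalize jt j ⟨om, 0, y⟩ = q at *
  generalize V4 p q = U at *
  obtain ⟨g, hg, gM⟩ : ∃ g ∈ Cen U, g ∉ M := by
    by_contra! hn
    exact KM ((W.le_cen_sup pU UC).trans (sup_le (inf_le_right.trans hn)
      (genZ h ((eK.ge.trans inf_le_right).trans (lOo _)) (odd_Oo _) cz)))
  have zU : j ⟨0, 0, 1⟩ ∈ Cen U := (as.cen UW) (ZW (mZ j 1))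
  have vz' := vz.conj (isConj_mk g _)
  have z'M : g * j ⟨0, 0, 1⟩ * g⁻¹ ∉ M := fun e => gM (s.mem vz zM e)
  obtain ⟨u, u2, e1, e2, e3⟩ := s.swap vz vz' zM z'M
  have uU := e3 _ zU (mul_mem (mul_mem hg zU) (inv_mem hg))
  have uM : u ∉ M := fun e => z'M (e1 ▸ mul_mem (mul_mem e zM) (inv_mem e))
  have sD := s.solv (vz.conj e2) uM (solv_cj e2 (hs _ (mV j 0 1) (ine o)))
  have UM : U ≤ M := (UW.trans (mapS _ _)).trans (jt_range j ▸ s.SM)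
  have UD : U ≤ M ⊓ conjS u M := le_inf UM fun x hx => mem_conjS.2 (by
    rw [mul_assoc, ← cen.1 uU x hx, inv_mul_cancel_left]; exact UM hx)
  have aD : W.AS U (M ⊓ conjS u M) := by
    obtain ⟨P, hP, l⟩ := exists_isSylowOf_ge pU UD
    obtain ⟨m, hm, e⟩ := (h.syl.of_le s.SM le_top).exists_conj_le hP.isPGroup
      (hP.le.trans inf_le_left)
    refine ⟨hP.of_card_le pU UD ?_, mU⟩
    have e4 := card_inf_mul_relIndex (VV j) (conjS m P)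
    have e5 := card_inf_mul_relIndex (VV j) j.range
    rw [inf_eq_left.2 (mapS j _), card_V h, h.card_S, T3.card_T3] at e5
    have e6 : (VV j).relIndex (conjS m P) ≤ _ := relIndex_le_of_le_right e (by omega)
    rw [show VV j ⊓ conjS m P = ⊥ from eq_bot_iff.2 fun t ht => by
      by_contra t1
      have m1 := hP.le (mem_conjS.1 ht.2)
      exact uM (by simpa using inv_mem (s.mem (g := u⁻¹) (Vc.conj ⟨t, ht.1, t1, IsConj.refl t⟩
        (by simpa using isConj_mk m⁻¹ t)) m1.1 (by simpa using mem_conjS.1 m1.2))),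
      card_bot, card_conjS] at e4
    omega
  have key : ∀ n ∈ M, ∀ w ∈ U, w ≠ 1 → n * w * n⁻¹ ∈ U → n ∈ Nor (ZZ j ⊔ R) :=
    fun n hn w hw w1 hw' => by
      rw [mem_normalizer_iff_conjS]
      refine eq_of_le_of_card_ge ?_ (card_conjS _ _).ge
      rw [conjS_sup, mem_normalizer_iff_conjS.1 (MR hn)]
      refine sup_le ?_ le_sup_right
      rintro _ ⟨z, hz, rfl⟩
      refine inZ_of h oR (s.SM.trans MR) (cmem (MV hn) (mem_sup_left (ZV j hz)))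
        (wc _ hw' (conj_ne_one w1)) ?_
      rw [← conj_c1]
      exact conj_mem_conjS (as.c1 (UW hw) (ZW hz))
  have k1 : ∀ w ∈ U, w ≠ 1 → Oo (M ⊓ conjS u M) ⊓ Cen1 w ≤ Nor (ZZ j ⊔ R) := fun w hw w1 n hn =>
    key n (W.Oo_le _ hn.1).1 w hw w1 ((c1'.1 hn.2).symm ▸ hw)
  have DN := aD.le_of (f4.gen (lOo _ (UD w1)) (lOo _ (UD w2)) (odd_Oo _) (k1 _ w1 (ine f4.ht))
    (k1 _ w2 (ine f4.ha)) (k1 _ (mul_mem w1 w2) (ine f4.hta))) (fun K hK => (nocomp sD hK).elim)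
    fun n hn => key n hn.1.1 p w1 (ine f4.ht) (cmem hn.2 w1)
  have vt : Vc (VV j) (j ⟨1, 0, 0⟩) := ⟨_, mV j 1 0, ine (ov h one_ne_zero 0), IsConj.refl _⟩
  have tM : j ⟨1, 0, 0⟩ ∈ M := s.SM ⟨_, rfl⟩
  obtain ⟨v, v2, e4, -⟩ := s.swap vt vz' tM z'M
  have e5 : u * v * j ⟨1, 0, 0⟩ * (u * v)⁻¹ = j ⟨0, 0, 1⟩ := by
    calc _ = u * (v * j ⟨1, 0, 0⟩ * v⁻¹) * u⁻¹ := by group
      _ = u * u * j ⟨0, 0, 1⟩ * (u * u)⁻¹ := by rw [e4, ← e1]; group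
      _ = _ := by rw [u2]; group
  have dM := s.mem vt tM (e5 ▸ zM)
  have m := cmem' (DN ⟨dM, mem_conjS.2 (mem_of_eq (inv_mem dM) (by
    rw [mul_inv_rev, inv_eq_of_mul_eq_one_right v2, inv_eq_of_mul_eq_one_right u2,
      ← mul_assoc, u2, one_mul]))⟩) (mem_sup_left (mZ j 1))
  rw [← e5, show (u * v)⁻¹ * (u * v * j ⟨1, 0, 0⟩ * (u * v)⁻¹) * (u * v) = j ⟨1, 0, 0⟩ by group] at m
  obtain ⟨z, hz, r, hr, e⟩ := (mem_sup_right_iff ((mapS j _).trans (s.SM.trans MR))).1 m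
  have : r ∈ j.range ⊓ R :=
    mem_inf.2 ⟨eq_inv_mul_of_mul_eq e ▸ mul_mem (inv_mem (mapS j _ hz)) ⟨_, rfl⟩, hr⟩
  rw [W.two_odd h.syl.isPGroup oR, mem_bot] at this
  rw [this, mul_one] at e
  exact one_ne_zero (mem_Z0.1 (h.mem_map.1 (e ▸ hz))).1

/-- the three cases -/
theorem cases3 (hO : oddCore G = ⊥) :
    (FV j ∧ FV (jt j)) ∨ Nor (VV j) = ⊤ ∨ Nor (VV (jt j)) = ⊤ := by
  have k1 : ∀ {j : T3 →* G}, SJ j → FV j → ∀ a ∈ VV j, a ≠ 1 → Group.IsSolvable (Cen1 a) :=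
    fun h f a ha a1 => by
      obtain ⟨z, hz, e⟩ := f.all h ha
      exact solv_cj e.isConj (solvz h hz fun z1 => a1 (by obtain ⟨g, -, rfl⟩ := e; simp [z1]))
  have k2 : ∀ {j : T3 →* G}, SJ j → ¬ FV j → (∀ a ∈ VV j, a ≠ 1 → Group.IsSolvable (Cen1 a)) ∨
      ∃ a c K, a ≠ 0 ∧ PCompIn 2 (Cen1 (j ⟨a, 0, c⟩)) K := fun {j} h f => by
    refine or_iff_not_imp_right.2 fun hn x hx x1 => ?_
    obtain ⟨a, c, rfl⟩ := exV hx
    by_cases a0 : a = 0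
    · exact solvz h (a0 ▸ mZ j c) x1
    · exact ((asV h f a0 c).pl fun K hK => hn ⟨a, c, K, a0, hK⟩).solv
  have h' := sjt h
  by_cases f : FV j <;> by_cases f' : FV (jt j)
  · exact Or.inl ⟨f, f'⟩
  · exact Or.inr (Or.inl (normV h hO f' (k1 h f)))
  · exact Or.inr (Or.inr (normV h' hO ((jt_jt j).symm ▸ f) (k1 h' f')))
  · rcases k2 h f with e | ⟨a, c, K, a0, hK⟩
    · exact Or.inr (Or.inl (normV h hO f' e))
    rcases k2 h' f' with e | ⟨b, d, L, b0, hL⟩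
    · exact Or.inr (Or.inr (normV h' hO ((jt_jt j).symm ▸ f) e))
    exact (both_bad h f f' a0 b0 hK hL).elim

end P3
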