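import Cfsg.Agent.P3.T

/-! The unitriangular group is a Sylow 2-subgroup of `L₃(4)`. -/

set_option autoImplicit false

namespace P3

open Subgroup Matrix A8
open H2 (F4)

/-- a unitriangular matrix -/
def mT (x : T3) : SpecialLinearGroup (Fin 3) F4 :=
  ⟨!![1, x.a, x.c; 0, 1, x.b; 0, 0, 1], by simp [det_fin_three]⟩

/-- the unitriangular matrices -/
def toSL : T3 →* SpecialLinearGroup (Fin 3) F4 :=
  MonoidHom.mk' mT fun x y => Subtype.ext (by
    change (mT (x * y)).1 = (mT x).1 * (mT y).1
    simp only [mT, mul_fin_three]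
    simp [T3.mul_def, add_comm, add_assoc])

/-- the model inside `L₃(4)` -/
def toPSL : T3 →* ProjectiveSpecialLinearGroup (Fin 3) F4 := (QuotientGroup.mk' _).comp toSL

theorem toPSL_inj : Function.Injective toPSL := (injective_iff_map_eq_one _).2 fun x e => by
  obtain ⟨l, -, e⟩ := Matrix.SpecialLinearGroup.mem_center_iff.1 ((QuotientGroup.eq_one_iff (mT x)).1 e)
  have k := fun a b => congrFun (congrFun e a) b
  exact T3.ext (k 0 1).symm (k 1 2).symm (k 0 2).symm

theorem exists_SJ3 {G : Type*} [Group G] [Finite G] {F : Type*} [Field F] [Fintype F]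
    (hF : Fintype.card F = 4) (S : Sylow 2 G) (P : Sylow 2 (ProjectiveSpecialLinearGroup (Fin 3) F))
    (e : (S : Subgroup G) ≃* (P : Subgroup (ProjectiveSpecialLinearGroup (Fin 3) F))) :
    ∃ j : T3 →* G, SJ j :=
  exists_SJ (i := (H2.pslCongr (FiniteField.ringEquivOfCardEq
    (H2.F4.card_F4.trans hF.symm))).toMonoidHom.comp toPSL)
    (fun _ _ e => toPSL_inj ((H2.pslCongr _).injective e)) (n := 6) (m := 315) T3.card_T3
    (H2.psl34_simple F hF).2 (by norm_num) S P e

end P3
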