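import Cfsg.Agent.P3.C2

/-! Groups of type `PGL₃(4)`: the embedding. -/

set_option autoImplicit false
set_option linter.unusedVariables false
set_option linter.unusedSectionVars false

namespace P3

open Cfsg Subgroup FT H4 H5 GW A8 Matrix
open H2 (F4)
open MT (Cj o2 isConj_mk cj_top cj_mk conj_in2)
open CIT (Rel pr mz mk mu ma mb mw mK)

universe u

variable {G : Type u} [Group G] [Finite G] {j : T3 →* G} {g n k d u w : G} {l m : F4}

abbrev L34 := ProjectiveSpecialLinearGroup (Fin 3) F4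

theorem exists_psi {z a b : G} (h : Rel z k u a b w) (z1 : z ≠ 1) : ∃ ψ : L34 →* G,
    Function.Injective ψ ∧ ψ (pr mz) = z ∧ ψ (pr mk) = k ∧ ψ (pr mu) = u ∧ ψ (pr mw) = w := by
  obtain ⟨hs, cM⟩ := H2.psl34_simple H2.F4 H2.F4.card_F4
  have c := (h.prod CIT.rel_model).card
  generalize hΓ : closure ({(z, pr mz), (k, pr mk), (u, pr mu), (a, pr ma), (b, pr mb),
    (w, pr mw)} : Set _) = Γ at c
  have m : ∀ x ∈ ({(z, pr mz), (k, pr mk), (u, pr mu), (a, pr ma), (b, pr mb),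
    (w, pr mw)} : Set _), x ∈ Γ := fun x hx => hΓ ▸ subset_closure hx
  let p := (MonoidHom.fst G _).comp Γ.subtype
  let q := (MonoidHom.snd G _).comp Γ.subtype
  have qs : Function.Surjective q := fun y => by
    obtain ⟨M, rfl⟩ := QuotientGroup.mk'_surjective _ y
    exact CIT.gen_model (A := q.range.comap pr) ⟨⟨_, m (z, pr mz) (by simp)⟩, rfl⟩
      ⟨⟨_, m (k, pr mk) (by simp)⟩, rfl⟩ ⟨⟨_, m (u, pr mu) (by simp)⟩, rfl⟩
      ⟨⟨_, m (w, pr mw) (by simp)⟩, rfl⟩ M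
  let e := MulEquiv.ofBijective q (qs.bijective_of_nat_card_le (cM ▸ c))
  let ψ := p.comp e.symm.toMonoidHom
  have k : ∀ x y (hx : (x, y) ∈ Γ), ψ y = x := fun x y hx =>
    congrArg p (e.symm_apply_apply ⟨_, hx⟩)
  refine ⟨ψ, ?_, k _ _ (m _ (by simp)), k _ _ (m _ (by simp)), k _ _ (m _ (by simp)),
    k _ _ (m _ (by simp))⟩
  rcases ψ.normal_ker.eq_bot_or_eq_top with e | e
  · exact (MonoidHom.ker_eq_bot_iff ψ).1 e
  · exact (z1 ((k _ _ (m (z, pr mz) (by simp))).symm.trans (e.ge (mem_top _)))).elim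

/-- a diagonal matrix -/
def md : GL (Fin 3) F4 := ⟨!![1, 0, 0; 0, ⟨2⟩, 0; 0, 0, 1], !![1, 0, 0; 0, ⟨3⟩, 0; 0, 0, 1],
  by decide +kernel, by decide +kernel⟩

abbrev io : L34 →* ProjGenLinGroup (Fin 3) F4 := ProjectiveSpecialLinearGroup.toPGL

theorem io_eq {A B : CIT.S34} (c : F4)
    (e : scalar (Fin 3) c = (md.1 * A.1 * md.2) * (B⁻¹).1) :
    ProjGenLinGroup.mk md * io (pr A) * (ProjGenLinGroup.mk md)⁻¹ = io (pr B) := by
  rw [← mul_inv_eq_one, ← map_inv, ← map_inv, ← map_inv]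
  change ProjGenLinGroup.mk (md * SpecialLinearGroup.toGL A * md⁻¹ *
    SpecialLinearGroup.toGL B⁻¹) = 1
  exact ProjGenLinGroup.mk_eq_one.2
    (GeneralLinearGroup.mem_center_iff_val_mem_range_scalar.2 ⟨c, e⟩)

theorem emb_of_psi {ψ : L34 →* G} (hi : Function.Injective ψ) (d3 : d * d * d = 1)
    (hz : d * ψ (pr mz) * d⁻¹ = ψ (pr mz)) (hk : d * ψ (pr mk) * d⁻¹ = ψ (pr mk))
    (hu : d * ψ (pr mu) * d⁻¹ = ψ (pr (mk⁻¹ * mu))) (hw : d * ψ (pr mw) * d⁻¹ = ψ (pr (mk * mw)))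
    (hc : ∀ g ∈ Cen ψ.range, g = 1) (ht : ψ.range ⊔ zpowers d = ⊤) : Emb G := by
  have ii := ProjectiveSpecialLinearGroup.toPGL_injective (n := Fin 3) (R := F4)
  by_cases dm : d ∈ ψ.range
  · rw [sup_eq_left.2 (zpowers_le.2 dm), MonoidHom.range_eq_top] at ht
    exact ⟨io.comp (MulEquiv.ofBijective ψ ⟨hi, ht⟩).symm.toMonoidHom, fun _ _ e =>
      (MulEquiv.injective _) (ii e)⟩
  have : Finite (ProjGenLinGroup (Fin 3) F4) := Finite.of_surjective _ ProjGenLinGroup.mk_surjective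
  let D : G × ProjGenLinGroup (Fin 3) F4 := (d, ProjGenLinGroup.mk md)
  have nD : D ∈ Nor (ψ.prod io).range := mnor (by
    rintro _ ⟨y, rfl⟩
    obtain ⟨M, rfl⟩ := QuotientGroup.mk'_surjective _ y
    exact CIT.gen_model (A := (((ψ.prod io).range.comap (MulAut.conj D).toMonoidHom).comap
      (ψ.prod io)).comap pr) ⟨_, Prod.ext hz.symm (io_eq 1 (by decide +kernel)).symm⟩
      ⟨_, Prod.ext hk.symm (io_eq 1 (by decide +kernel)).symm⟩
      ⟨_, Prod.ext hu.symm (io_eq 1 (by decide +kernel)).symm⟩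
      ⟨_, Prod.ext hw.symm (io_eq ⟨3⟩ (by decide +kernel)).symm⟩ M)
  have D3 : D ^ 3 = 1 := by
    rw [pow_three']
    exact Prod.ext d3 (congrArg ProjGenLinGroup.mk (by decide +kernel : md * md * md = 1))
  have nΓ : (ψ.prod io).range ⊔ zpowers D ≤ Nor (ψ.prod io).range :=
    sup_le le_normalizer (zpowers_le.2 nD)
  let p := (MonoidHom.fst G _).comp ((ψ.prod io).range ⊔ zpowers D).subtype
  let q := (MonoidHom.snd G _).comp ((ψ.prod io).range ⊔ zpowers D).subtype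
  have p1 : Function.Injective p := (injective_iff_map_eq_one _).2 fun x e => by
    obtain ⟨_, ⟨y, rfl⟩, _, ⟨i, rfl⟩, e'⟩ := (mem_sup_left_iff (zpowers_le.2 nD)).1 x.2
    have e1 : ψ y * d ^ i = 1 := (congrArg Prod.fst e').trans e
    have e2 : D ^ i = 1 := by
      by_contra ne
      refine dm (H4.mem_of_pow_mem_of_coprime (m := i.natAbs) ?_ ?_)
      · have : d ^ i ∈ ψ.range := eq_inv_of_mul_eq_one_right e1 ▸ inv_mem ⟨y, rfl⟩
        rw [← _root_.zpow_natCast]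
        rcases Int.natAbs_eq i with e | e
        · exact e ▸ this
        · rw [e, _root_.zpow_neg, inv_mem_iff] at this; exact this
      · refine Nat.Coprime.coprime_dvd_left (orderOf_dvd_of_pow_eq_one (pow_three' d ▸ d3))
          (Nat.prime_three.coprime_iff_not_dvd.2 fun e => ne ?_)
        obtain ⟨t, rfl⟩ := Int.natCast_dvd.2 e
        rw [_root_.zpow_mul, _root_.zpow_natCast, D3, _root_.one_zpow]
    dsimp only at e'
    rw [show d ^ i = 1 from congrArg Prod.fst e2, mul_one, ← map_one ψ] at e1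
    rw [e2, hi e1, map_one, mul_one] at e'
    exact Subtype.ext e'.symm
  have p2 : Function.Surjective p := MonoidHom.range_eq_top.1 (eq_top_iff.2 (ht.ge.trans (sup_le
    (by rintro _ ⟨y, rfl⟩; exact ⟨⟨_, mem_sup_left ⟨y, rfl⟩⟩, rfl⟩)
    (zpowers_le.2 ⟨⟨D, mem_sup_right (mem_zpowers D)⟩, rfl⟩))))
  have q1 : Function.Injective q := (injective_iff_map_eq_one _).2 fun x e => by
    refine Subtype.ext (Prod.ext (hc _ (cen.2 ?_)) e)
    rintro _ ⟨y, rfl⟩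
    obtain ⟨y', e'⟩ := cmem (nΓ x.2) (MonoidHom.mem_range.2 ⟨y, rfl⟩)
    have e1 : io y' = x.1.2 * io y * x.1.2⁻¹ := congrArg Prod.snd e'
    rw [show x.1.2 = 1 from e, one_mul, inv_one, mul_one] at e1
    rw [ii e1] at e'
    exact mul_inv_eq_iff_eq_mul.1 (congrArg Prod.fst e').symm
  exact ⟨q.comp (MulEquiv.ofBijective p ⟨p1, p2⟩).symm.toMonoidHom, fun _ _ e =>
    (MulEquiv.injective _) (q1 e)⟩

namespace Cf

variable (h : Cf j k d u w) {M : Subgroup G}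
include h

theorem cjz' (hk : k ∈ M) {c : F4} (c0 : c ≠ 0) : Cj M (j ⟨0, 0, 1⟩) (j ⟨0, 0, c⟩) := by
  rcases (by decide +kernel : ∀ c : F4, c ≠ 0 → c = 1 ∨ c = om ^ 2 * om ^ 2 * 1 ∨
    c = om ^ 2 * om ^ 2 * (om ^ 2 * om ^ 2 * 1)) c c0 with rfl | rfl | rfl
  exacts [MT.Cj.refl _ _, ⟨k, hk, h.dk.1.z 1⟩, MT.Cj.trans ⟨k, hk, h.dk.1.z 1⟩ ⟨k, hk, h.dk.1.z _⟩]

theorem S_le (hz : j ⟨0, 0, 1⟩ ∈ M) (hk : k ∈ M) (hu : u ∈ M) (hw : w ∈ M) : j.range ≤ M := by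
  have z : ∀ c, j ⟨0, 0, c⟩ ∈ M := fun c => by
    by_cases c0 : c = 0
    · rw [c0, ← T3.one_def, map_one]; exact one_mem _
    · exact (h.cjz' hk c0).mem hz
  rintro _ ⟨x, rfl⟩
  rw [(by decide +kernel : ∀ x : T3, x = ⟨x.a, 0, 0⟩ * ⟨0, x.b, 0⟩ * ⟨0, 0, x.c + x.a * x.b⟩) x,
    map_mul, map_mul, ← h.wz, ← h.uz]
  exact mul_mem (mul_mem (mul_mem (mul_mem hw (z _)) (inv_mem hw))
    (mul_mem (mul_mem hu (z _)) (inv_mem hu))) (z _)

theorem cjv (hS : j.range ≤ M) (hk : k ∈ M) (hw : w ∈ M) {x : G} (hx : x ∈ VV j) (x1 : x ≠ 1) :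
    Cj M (j ⟨0, 0, 1⟩) x := by
  obtain ⟨a, c, rfl⟩ := exV hx
  by_cases a0 : a = 0
  · exact a0 ▸ h.cjz' hk fun e => x1 (by rw [a0, e, ← T3.one_def, map_one])
  · exact ((h.cjz' hk a0).trans ⟨w, hw, h.wz a⟩).trans ((cjV h.sj a0 _ _).mono hS)

theorem gen (hz : j ⟨0, 0, 1⟩ ∈ M) (hk : k ∈ M) (hu : u ∈ M) (hw : w ∈ M) (hd : d ∈ M) :
    M = ⊤ := by
  have hS := h.S_le hz hk hu hw
  have o := oz h.sj one_ne_zero
  have nS : Nor j.range ≤ M := fun n hn => by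
    obtain ⟨l, m, t⟩ := exists_ty h.sj hn
    have k1 : ∀ n l, Ty j n l l → n ∈ M := fun n l t => by
      rcases (by decide +kernel : ∀ l : F4, l ≠ 0 → l = 1 ∨ l * om ^ 2 = 1 ∨
        l * om ^ 2 * om ^ 2 = 1) l t.2.1 with rfl | e | e
      · exact hS (h.one t)
      · exact (mul_mem_cancel_right hk).1 (hS (h.one (e ▸ t.mul h.dk.1)))
      · exact (mul_mem_cancel_right hk).1 ((mul_mem_cancel_right hk).1
          (hS (h.one (e ▸ (t.mul h.dk.1).mul h.dk.1))))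
    rcases (by decide +kernel : ∀ l m : F4, l ≠ 0 → m ≠ 0 → m = l ∨ m * om = l * om ^ 2 ∨
      m * om * om = l * om ^ 2 * om ^ 2) l m t.2.1 t.2.2.1 with rfl | e | e
    · exact k1 _ _ t
    · exact (mul_mem_cancel_right hd).1 (k1 _ _ (e ▸ t.mul h.dd.1))
    · exact (mul_mem_cancel_right hd).1 ((mul_mem_cancel_right hd).1
        (k1 _ _ (e ▸ (t.mul h.dd.1).mul h.dd.1)))
  by_contra hn
  have se := sein_one le_top hz o (fun t ht ot => ?_)
    (inf_le_right.trans ((h.czS (mZ j 1) (ine o)).trans nS)) fun e => hn (eq_top_iff.2 e)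
  · have o' := oz h.sj (d := om) (by decide)
    have f := f4Z h.sj
    have e := (MT.se_facts se ⟨_, mem_top _, _, mem_top _, ⟨ine o, ii o⟩, ⟨ine o', ii o'⟩,
      f.ne.symm, f.c⟩).1 _ (hS ⟨⟨1, 0, 0⟩, rfl⟩) _ (hS ⟨⟨0, 1, 0⟩, rfl⟩) h.rel.aa h.rel.bb
    rw [show Oo (⊤ : Subgroup G) = ⊥ from (pPrimeCoreIn_top 2).trans h.hO, mem_bot, ← map_mul,
      ← map_mul, ← map_one j] at e
    exact absurd (h.sj.inj e) (by decide +kernel)
  obtain ⟨g, hg, e⟩ := conj_in2 (h.sj.syl.of_le hS le_top) ht (ii ot)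
  have o' := iconj ot g
  refine MT.Cj.trans ?_ (cj_mk hg t).symm
  rcases invS h.sj e (ii o') with e | e
  · exact h.cjv hS hk hw e (ine o')
  · exact jt_Z j (mem_Z0.2 ⟨rfl, rfl⟩ : (⟨0, 0, 1⟩ : T3) ∈ _) ▸
      h.symm.cjv (jt_range j ▸ hS) hk hu e (ine o')

theorem emb : Emb G := by
  obtain ⟨ψ, hi, e1, e2, e3, e4⟩ := exists_psi h.rel (ine (oz h.sj one_ne_zero))
  have hS := h.S_le (M := ψ.range) ⟨_, e1⟩ ⟨_, e2⟩ ⟨_, e3⟩ ⟨_, e4⟩
  refine emb_of_psi hi h.ddd ?_ ?_ ?_ ?_ (fun g hg => h.fk (h.cenS (centralizer_le hS hg))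
    (c1'.1 (c1.2 (cen.1 hg k ⟨_, e2⟩).symm))) (h.gen (mem_sup_left ⟨_, e1⟩) (mem_sup_left ⟨_, e2⟩)
      (mem_sup_left ⟨_, e3⟩) (mem_sup_left ⟨_, e4⟩) (mem_sup_right (mem_zpowers d)))
  · rw [e1, h.dd.1.z]; exact congrArg j (by decide +kernel)
  · rw [e2]; exact c1'.1 h.dk'
  · rw [map_mul, map_mul, map_inv, map_inv, e2, e3]
    calc _ = k⁻¹ * (k * d) * u * d⁻¹ := by group
      _ = _ := by rw [← h.ud]; group
  · rw [map_mul, map_mul, e2, e4]
    calc _ = k * k * k * d * w * d⁻¹ := by rw [h.kkk, one_mul]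
      _ = _ := by rw [mul_assoc k, mul_assoc k, ← h.wd]; group

end Cf

theorem emb_all (h : SJ j) (hO : oddCore G = ⊥) : Emb G := by
  rcases cases3 h hO with ⟨f, f'⟩ | e | e
  · obtain ⟨j', p⟩ := exists_pc h hO f f'
    by_cases c : CIT.IsCIT G
    · exact p.emb_cit c
    · exact let ⟨_, _, _, _, e⟩ := p.exists_cf c; e.emb
  · exact emb_nor h hO e
  · exact emb_nor (sjt h) hO e

end P3
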