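import Cfsg.Agent.P3.T
import Cfsg.Agent.Ly.Red

/-! Groups with a Sylow 2-subgroup of type `L₃(4)`: fusion and centralizers of central involutions. -/

set_option autoImplicit false
set_option linter.unusedVariables false
set_option linter.unusedSectionVars false

namespace P3

open Cfsg Subgroup FT H4 H5 GW A8
open H2 (F4)
open MT (Cj o2 isConj_mk cj_top cj_mk ext0 zstar_in)

universe u

variable {G : Type u} [Group G] [Finite G]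

/-- the action of the normalizer of the image -/
noncomputable def act {A : Type*} [Group A] {i : A →* G} (hi : Function.Injective i) :
    Nor i.range →* MulAut A :=
  (MulAut.congr (MonoidHom.ofInjective hi).symm).toMonoidHom.comp (normalizerMonoidHom i.range)

theorem act_spec {A : Type*} [Group A] {i : A →* G} (hi : Function.Injective i) (g : Nor i.range)
    (a : A) : i (act hi g a) = g * i a * g⁻¹ := by
  simp [act, MulAut.congr_apply, MonoidHom.apply_ofInjective_symm, MonoidHom.ofInjective_apply]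

abbrev VV (j : T3 →* G) : Subgroup G := V0.map j
abbrev ZZ (j : T3 →* G) : Subgroup G := Z0.map j
abbrev jt (j : T3 →* G) : T3 →* G := j.comp tau

theorem jt_range (j : T3 →* G) : (jt j).range = j.range := by
  rw [MonoidHom.range_comp, MonoidHom.range_eq_top.2 tau_bij.2, ← MonoidHom.range_eq_map]

theorem jt_jt (j : T3 →* G) : jt (jt j) = j := MonoidHom.ext fun x => congrArg j (tau_tau x)

theorem jt_tau (j : T3 →* G) (x : T3) : jt j (tau x) = j x := congrArg j (tau_tau x)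

theorem jt_Z (j : T3 →* G) {x : T3} (h : x ∈ Z0) : jt j x = j x :=
  congrArg j ((by decide +kernel : ∀ x : T3, x.a = 0 ∧ x.b = 0 → tau x = x) x (mem_Z0.1 h))

theorem ZZ_jt (j : T3 →* G) : ZZ (jt j) = ZZ j := by
  ext g
  exact ⟨by rintro ⟨x, hx, rfl⟩; exact ⟨x, hx, (jt_Z j hx).symm⟩,
    by rintro ⟨x, hx, rfl⟩; exact ⟨x, hx, jt_Z j hx⟩⟩

theorem mV (j : T3 →* G) (a c : F4) : j ⟨a, 0, c⟩ ∈ VV j := ⟨_, mem_V0.2 rfl, rfl⟩
theorem mZ (j : T3 →* G) (c : F4) : j ⟨0, 0, c⟩ ∈ ZZ j := ⟨_, mem_Z0.2 ⟨rfl, rfl⟩, rfl⟩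

theorem exV {j : T3 →* G} {g : G} (h : g ∈ VV j) : ∃ a c, g = j ⟨a, 0, c⟩ := by
  obtain ⟨⟨a, b, c⟩, hx, rfl⟩ := h
  obtain rfl : b = 0 := mem_V0.1 hx
  exact ⟨a, c, rfl⟩

theorem exZ {j : T3 →* G} {g : G} (h : g ∈ ZZ j) : ∃ c, g = j ⟨0, 0, c⟩ := by
  obtain ⟨⟨a, b, c⟩, hx, rfl⟩ := h
  obtain ⟨rfl, rfl⟩ : a = 0 ∧ b = 0 := mem_Z0.1 hx
  exact ⟨c, rfl⟩

theorem ZV (j : T3 →* G) : ZZ j ≤ VV j := map_mono fun x hx => mem_V0.2 (mem_Z0.1 hx).2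

theorem elemV (j : T3 →* G) : IsElementaryAbelian 2 (VV j) :=
  elem_map j (fun a ha b hb => V_comm b a (mem_V0.1 hb) (mem_V0.1 ha)) fun a ha =>
    V_sq a (mem_V0.1 ha)

theorem VC (j : T3 →* G) {x : G} (hx : x ∈ VV j) : VV j ≤ Cen1 x := fun y hy =>
  c1.2 (comm_of_isMulCommutative (elemV j).1 hy hx)

theorem sqV {j : T3 →* G} {x : G} (hx : x ∈ VV j) : x * x = 1 := by
  rw [← sq]; exact (elemV j).2 x hx

theorem SV (j : T3 →* G) : j.range ≤ Nor (VV j) := norS j fun g k hk => mem_V0.2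
  ((by decide +kernel : ∀ g k : T3, k.b = 0 → (g * k * g⁻¹).b = 0) g k (mem_V0.1 hk))

theorem SZ (j : T3 →* G) : j.range ≤ Cen (ZZ j) := by
  rintro _ ⟨x, rfl⟩
  refine cen.2 ?_
  rintro _ ⟨z, hz, rfl⟩
  rw [← map_mul, ← map_mul, cen_Z z x (mem_Z0.1 hz).1 (mem_Z0.1 hz).2]

theorem SC (j : T3 →* G) {z : G} (hz : z ∈ ZZ j) : j.range ≤ Cen1 z := fun x hx =>
  c1.2 (cen.1 (SZ j hx) z hz)

/-- the type of an element normalizing `S` -/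
def Ty (j : T3 →* G) (n : G) (l m : F4) : Prop := n ∈ Nor j.range ∧ l ≠ 0 ∧ m ≠ 0 ∧
  ∀ s, ∃ t, n * j s * n⁻¹ = j t ∧ t.a = l * s.a ∧ t.b = m * s.b ∧
    (s.a = 0 → s.b = 0 → t.c = l * m * s.c)

section Ty

variable {j : T3 →* G} {n n' : G} {l m l' m' : F4}

theorem ty_S (j : T3 →* G) (s : T3) : Ty j (j s) 1 1 :=
  ⟨le_normalizer ⟨s, rfl⟩, one_ne_zero, one_ne_zero, fun x => ⟨s * x * s⁻¹, by
    rw [map_mul, map_mul, map_inv], by revert s x; decide +kernel⟩⟩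

theorem Ty.mul (h : Ty j n l m) (h' : Ty j n' l' m') : Ty j (n * n') (l * l') (m * m') :=
  ⟨mul_mem h.1 h'.1, mul_ne_zero h.2.1 h'.2.1, mul_ne_zero h.2.2.1 h'.2.2.1, fun s => by
    obtain ⟨t, e, a1, a2, a3⟩ := h'.2.2.2 s
    obtain ⟨u, e', b1, b2, b3⟩ := h.2.2.2 t
    refine ⟨u, by rw [← e', ← e]; group, by rw [b1, a1]; ring, by rw [b2, a2]; ring, fun c d => ?_⟩
    rw [b3 (by rw [a1, c, mul_zero]) (by rw [a2, d, mul_zero]), a3 c d]; ring⟩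

theorem Ty.tau (h : Ty j n l m) : Ty (jt j) n m l :=
  ⟨(jt_range j).symm ▸ h.1, h.2.2.1, h.2.1, fun s => by
    obtain ⟨t, e, a1, a2, a3⟩ := h.2.2.2 (P3.tau s)
    refine ⟨P3.tau t, by rw [jt_tau, ← e]; rfl, a2, a1, fun c d => ?_⟩
    simp only [tau_def] at *
    rw [a3 d c, a1, c, d]; ring⟩

theorem Ty.get (h : Ty j n l m) (hj : SJ j) {s t : T3} (e : n * j s * n⁻¹ = j t) :
    t.a = l * s.a ∧ t.b = m * s.b ∧ (s.a = 0 → s.b = 0 → t.c = l * m * s.c) := by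
  obtain ⟨u, e', a⟩ := h.2.2.2 s
  rwa [← hj.inj (e'.symm.trans e)]

theorem Ty.uniq (h : Ty j n l m) (hj : SJ j) (h' : Ty j n l' m') : l = l' ∧ m = m' := by
  obtain ⟨t, e, a1, a2, -⟩ := h.2.2.2 ⟨1, 1, 0⟩
  obtain ⟨b1, b2, -⟩ := h'.get hj e
  exact ⟨by simpa using a1.symm.trans b1, by simpa using a2.symm.trans b2⟩

theorem Ty.z (h : Ty j n l m) (c : F4) : n * j ⟨0, 0, c⟩ * n⁻¹ = j ⟨0, 0, l * m * c⟩ := by
  obtain ⟨t, e, a1, a2, a3⟩ := h.2.2.2 ⟨0, 0, c⟩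
  rw [e]
  exact congrArg j (T3.ext (by simpa using a1) (by simpa using a2) (a3 rfl rfl))

theorem Ty.v (h : Ty j n l m) (a c : F4) : ∃ d, n * j ⟨a, 0, c⟩ * n⁻¹ = j ⟨l * a, 0, d⟩ := by
  obtain ⟨t, e, a1, a2, a3⟩ := h.2.2.2 ⟨a, 0, c⟩
  exact ⟨t.c, e.trans (congrArg j (T3.ext a1 (by simpa using a2) rfl))⟩

theorem Ty.norV (h : Ty j n l m) : n ∈ Nor (VV j) := mnor fun x hx => by
  obtain ⟨a, c, rfl⟩ := exV hx
  obtain ⟨d, e⟩ := h.v a c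
  exact e ▸ mV j _ _

theorem Ty.norZ (h : Ty j n l m) : n ∈ Nor (ZZ j) := mnor fun x hx => by
  obtain ⟨c, rfl⟩ := exZ hx
  exact h.z c ▸ mZ j _

theorem exists_ty (h : SJ j) (hn : n ∈ Nor j.range) : ∃ l m, Ty j n l m := by
  obtain ⟨_, ⟨s, rfl⟩, y, hy, ho, e⟩ := odd_part h.syl (mem_top n) hn
  have y1 := zpowers_le.2 hn hy
  obtain ⟨l, m, a1, a2, a3⟩ := aut_lin (φ := act h.inj ⟨y, y1⟩) (Odd.of_dvd_nat ho
    ((orderOf_map_dvd _ _).trans (orderOf_coe (⟨y, y1⟩ : Nor j.range)).symm.dvd))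
  exact ⟨_, _, e ▸ (ty_S j s).mul ⟨y1, a1, a2, fun x => ⟨_, (act_spec h.inj ⟨y, y1⟩ x).symm, a3 x⟩⟩⟩

theorem Ty.inv (h : Ty j n l m) (hj : SJ j) : Ty j n⁻¹ l⁻¹ m⁻¹ := by
  obtain ⟨l', m', h'⟩ := exists_ty hj (inv_mem h.1)
  have e := h.mul h'
  rw [mul_inv_cancel, ← map_one j] at e
  obtain ⟨e1, e2⟩ := e.uniq hj (ty_S j 1)
  rwa [← eq_inv_of_mul_eq_one_right e1, ← eq_inv_of_mul_eq_one_right e2]

theorem Ty.one (h : Ty j n 1 1) (hj : SJ j) : ∃ s, (j s)⁻¹ * n ∈ Cen j.range := by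
  obtain ⟨_, ⟨s, rfl⟩, y, hy, ho, e⟩ := odd_part hj.syl (mem_top n) h.1
  have h' := ((ty_S j s).inv hj).mul h
  refine ⟨s, cen.2 ?_⟩
  rw [e, inv_mul_cancel_left] at h' ⊢
  rintro _ ⟨x, rfl⟩
  obtain ⟨t, e1, a1, a2, -⟩ := h'.2.2.2 x
  have e2 : t = x * ⟨0, 0, t.c + x.c⟩ :=
    (by decide +kernel : ∀ x t : T3, t.a = 1⁻¹ * 1 * x.a → t.b = 1⁻¹ * 1 * x.b →
      t = x * ⟨0, 0, t.c + x.c⟩) x t a1 a2
  have e3 := h'.z (t.c + x.c)
  rw [e2, map_mul] at e1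
  rw [fix_of_odd ho (k := 1) (by rw [pow_one, sq]; exact sqV (mV j _ _))
    (mul_inv_eq_iff_eq_mul.1 (e3.trans (by simp))) e1, mul_one] at e1
  exact mul_inv_eq_iff_eq_mul.1 e1

end Ty

theorem NSV {j : T3 →* G} (h : SJ j) : Nor j.range ≤ Nor (VV j) := fun n hn =>
  let ⟨_, _, e⟩ := exists_ty h hn; e.norV

theorem NSZ {j : T3 →* G} (h : SJ j) : Nor j.range ≤ Nor (ZZ j) := fun n hn =>
  let ⟨_, _, e⟩ := exists_ty h hn; e.norZ

/-- some element of `V` outside the centre is conjugate into the centre -/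
def FV (j : T3 →* G) : Prop := ∃ a c d, a ≠ 0 ∧ IsConj (j ⟨0, 0, d⟩) (j ⟨a, 0, c⟩)

section SJ

variable {j : T3 →* G} (h : SJ j) {g : G}
include h

theorem sjt : SJ (jt j) := h.aut tau tau_bij

theorem card_V : Nat.card (VV j) = 16 := (h.card_map inV _).trans card_V0
theorem card_Z : Nat.card (ZZ j) = 4 := (h.card_map inZ _).trans card_Z0

theorem wc (hg : ∀ c ∈ VV j, g * c * g⁻¹ ∈ j.range) : g ∈ Nor (VV j) := by
  by_contra hn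
  have e1 : conjS g (VV j) ≤ VV (jt j) := by
    rintro _ ⟨x, hx, rfl⟩
    obtain ⟨s, e⟩ := hg x hx
    by_contra hs
    refine hn (mnor fun y hy => ?_)
    obtain ⟨t, e'⟩ := hg y hy
    have a1 : s.a ≠ 0 := fun a1 => hs ⟨tau s, mem_V0.2 a1, (jt_tau j s).trans e⟩
    have a2 := (inv_cases s (h.inj (by rw [map_mul, map_one, e, conj_mul, sqV hx]; simp))).resolve_left a1
    refine ⟨t, mem_V0.2 ((cen_V s t a2 a1).1 (h.comm.1 ?_)), e'⟩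
    rw [e, e', ← conj_c1]
    exact conj_mem_conjS (VC j hx hy)
  have e2 := eq_of_le_of_card_ge e1 (by rw [card_conjS, card_V h, card_V (sjt h)])
  have s1 : IsSylowOf 2 (conjS g j.range) (Nor (VV (jt j))) :=
    (h.syl.map_conj (le_normalizer (mem_top g))).of_le (by
      rw [← e2]; exact (conjS_mono g (SV j)).trans (H5.map_conj_normalizer _ g).le) le_top
  obtain ⟨k, hk, e3⟩ := s1.exists_conj (h.syl.of_le (jt_range j ▸ SV (jt j)) le_top)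
  obtain ⟨l, m, t⟩ := exists_ty h (n := k * g) (mem_normalizer_iff_conjS.2 (by
    rw [← conjS_conjS]; exact e3))
  obtain ⟨d, e4⟩ := t.v 1 0
  obtain ⟨s, hs, e5⟩ := cmem hk (e1 (conj_mem_conjS (mV j 1 0)))
  have := congrArg T3.a (h.inj (a₁ := tau s) (a₂ := ⟨l * 1, 0, d⟩) (by rw [← e4]; exact e5.trans (by group)))
  exact t.2.1 (by simpa [tau_def, mem_V0.1 hs] using this.symm)

theorem ctl {x y : G} (hx : x ∈ VV j) (hy : y ∈ VV j) (e : IsConj x y) : Cj (Nor (VV j)) x y := by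
  have p := H5.isPGroup_of_elem (elemV j)
  obtain ⟨P, hP, l⟩ := exists_isSylowOf_ge p (le_inf le_top (VC j hy))
  obtain ⟨g, -, e1, e2⟩ := ext0 hP p (le_inf le_top (VC j hx)) (cj_top.2 e)
  obtain ⟨k, -, e3⟩ := h.syl.exists_conj_le hP.isPGroup le_top
  have a1 := wc h fun c hc => e3 (conj_mem_conjS (l hc))
  have a2 := wc h (g := k * g) fun c hc => mem_of_eq (e3 (conj_mem_conjS (e2 c hc))) (by group)
  exact ⟨g, (mul_mem_cancel_left a1).1 a2, e1⟩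

theorem two_cen (hg : g ∈ Nor (ZZ j)) (g2 : g * g = 1) : g ∈ Cen (ZZ j) := by
  obtain ⟨k, hk, e⟩ := MT.conj_in2 (h.syl.of_le ((SZ j).trans (cnor le_rfl)) le_top) hg g2
  simpa [mul_assoc] using cmem' (mcen hk) (SZ j e)

theorem ti {c d c' : F4} (c0 : c ≠ 0) (e : g * j ⟨0, 0, c⟩ * g⁻¹ = j ⟨0, 0, c'⟩) {y : T3}
    (e' : g * j ⟨0, 0, d⟩ * g⁻¹ = j y) : y.a = 0 ∧ y.b = 0 := by
  by_contra hn
  have y2 : y * y = 1 := h.inj (by rw [map_mul, map_one, ← e', conj_mul, sqV (mV j _ _)]; simp)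
  obtain ⟨k, k2, ek⟩ := (by decide +kernel : ∀ (y : T3) (c : F4), y * y = 1 → ¬ (y.a = 0 ∧ y.b = 0) →
    ∃ k, k * k = 1 ∧ k * y * k⁻¹ = y * ⟨0, 0, c⟩) y c' y2 hn
  have a1 : g⁻¹ * j k * g * j ⟨0, 0, c⟩ * (g⁻¹ * j k * g)⁻¹ = j ⟨0, 0, c⟩ := by
    calc _ = g⁻¹ * (j k * (g * j ⟨0, 0, c⟩ * g⁻¹) * (j k)⁻¹) * g := by group
      _ = _ := by rw [e, c1'.1 (SC j (mZ j c') ⟨k, rfl⟩), ← e]; group
  have a2 : g⁻¹ * j k * g * j ⟨0, 0, d⟩ * (g⁻¹ * j k * g)⁻¹ = j ⟨0, 0, d⟩ * j ⟨0, 0, c⟩ := by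
    calc _ = g⁻¹ * (j k * (g * j ⟨0, 0, d⟩ * g⁻¹) * (j k)⁻¹) * g := by group
      _ = _ := by rw [e', ← map_inv, ← map_mul, ← map_mul, ek, map_mul, ← e, ← e']; group
  have d0 : d ≠ 0 := fun e0 => hn (by
    rw [e0, ← T3.one_def, map_one, mul_one, mul_inv_cancel, ← map_one j] at e'
    rw [← h.inj e']; exact ⟨rfl, rfl⟩)
  have dc : d ≠ c := fun e0 => hn (by rw [e0, e] at e'; rw [← h.inj e']; exact ⟨rfl, rfl⟩)
  have k3 : g⁻¹ * j k * g * (g⁻¹ * j k * g) = 1 := by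
    calc _ = g⁻¹ * j (k * k) * g := by rw [map_mul]; group
      _ = 1 := by rw [k2, map_one]; group
  generalize g⁻¹ * j k * g = t at *
  have := cen.1 (two_cen h (mnor fun x hx => ?_) k3) _ (mZ j d)
  · rw [this, mul_inv_cancel_right, left_eq_mul, ← map_one j] at a2
    exact c0 (congrArg T3.c (h.inj a2))
  obtain ⟨x, rfl⟩ := exZ hx
  rcases (by decide +kernel : ∀ c d x : F4, c ≠ 0 → d ≠ 0 → d ≠ c → (⟨0, 0, x⟩ : T3) = 1 ∨
    x = c ∨ x = d ∨ (⟨0, 0, x⟩ : T3) = ⟨0, 0, c⟩ * ⟨0, 0, d⟩) c d x c0 d0 dc with e | rfl | rfl | e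
  · simp [e]
  · exact a1.symm ▸ hx
  · exact a2.symm ▸ mul_mem hx (mZ j c)
  · rw [e, map_mul, ← conj_mul, a1, a2]
    exact mul_mem (mZ j c) (mul_mem (mZ j d) (mZ j c))

theorem std0 (f : FV j) :
    ∃ g ∈ Nor (VV j), ∀ a, ∃ c d, g * j ⟨0, 0, d⟩ * g⁻¹ = j ⟨a, 0, c⟩ := by
  obtain ⟨a, c, d, a0, e⟩ := f
  obtain ⟨g, hg, e⟩ := ctl h (mV j 0 d) (mV j a c) e
  choose α γ hf using fun d => exV (cmem hg (mV j 0 d))
  have : Function.Injective α := fun x y exy => by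
    by_contra hne
    refine a0 (ti h (c := x + y) (c' := γ x + γ y) (fun e0 => hne ?_) ?_ e).1
    · linear_combination e0 - y * two0
    · rw [show (⟨0, 0, x + y⟩ : T3) = ⟨0, 0, x⟩ * ⟨0, 0, y⟩ by simp [T3.mul_def], map_mul,
        ← conj_mul, hf, hf, ← map_mul, T3.mul_def, exy, aa]
      simp
  exact ⟨g, hg, fun a => let ⟨d, e⟩ := Finite.surjective_of_injective this a
    ⟨γ d, d, e ▸ hf d⟩⟩

theorem cjV {a : F4} (a0 : a ≠ 0) (c d : F4) : Cj j.range (j ⟨a, 0, c⟩) (j ⟨a, 0, d⟩) :=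
  let ⟨_, e⟩ := (by decide +kernel : ∀ a c d : F4, a ≠ 0 → ∃ g : T3,
    g * ⟨a, 0, c⟩ * g⁻¹ = ⟨a, 0, d⟩) a c d a0
  cjS j e

theorem FV.all (f : FV j) {x : G} (hx : x ∈ VV j) : ∃ z ∈ ZZ j, Cj (Nor (VV j)) z x := by
  obtain ⟨a, c, rfl⟩ := exV hx
  by_cases a0 : a = 0
  · exact ⟨_, a0 ▸ mZ j c, MT.Cj.refl _ _⟩
  obtain ⟨g, hg, e⟩ := std0 h f
  obtain ⟨c', d, e⟩ := e a
  exact ⟨_, mZ j d, MT.Cj.trans ⟨g, hg, e⟩ ((cjV h a0 _ _).mono (SV j))⟩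

theorem sylV (f : ¬ FV j) {a : F4} (a0 : a ≠ 0) (c : F4) :
    IsSylowOf 2 (VV j) (Cen1 (j ⟨a, 0, c⟩)) := by
  have := h.sylC (s := ⟨a, 0, c⟩) fun s e => by
    have := (h.sq_of (h.ord (V_sq _ rfl) fun e => a0 (congrArg T3.a e)) e).1
    rcases (by decide +kernel : ∀ (s : T3) (a c : F4), a ≠ 0 → s * s = 1 →
      cc s ≤ cc (⟨a, 0, c⟩ : T3) ∨ s = ⟨0, 0, s.c⟩) s a c a0 this with e' | e'
    · exact e'
    · exact (f ⟨a, c, s.c, a0, e' ▸ e.symm⟩).elim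
  rwa [top_inf_eq, show j.range ⊓ Cen1 (j ⟨a, 0, c⟩) = VV j from le_antisymm (by
    rintro _ ⟨⟨x, rfl⟩, e⟩
    exact ⟨x, mem_V0.2 ((cen_V _ x rfl a0).1 (h.comm.1 e)), rfl⟩)
    (le_inf (mapS j _) (VC j (mV j _ _)))] at this

theorem NVZ (f : ¬ FV j) : Nor (VV j) ≤ Nor (ZZ j) := fun g hg => mnor fun x hx => by
  obtain ⟨d, rfl⟩ := exZ hx
  obtain ⟨a, c, e⟩ := exV (cmem hg (mV j 0 d))
  by_cases a0 : a = 0
  · exact e ▸ a0 ▸ mZ j c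
  · exact (f ⟨a, c, d, a0, e ▸ isConj_mk g _⟩).elim

theorem scV (f : ¬ FV (jt j)) {x y : G} (hx : x ∈ VV j) (hy : y ∈ j.range) (e : IsConj x y) :
    y ∈ VV j := by
  obtain ⟨y, rfl⟩ := hy
  by_contra hn
  have b0 : y.b ≠ 0 := fun e => hn ⟨y, mem_V0.2 e, rfl⟩
  obtain ⟨g, e'⟩ := isConj_iff.1 e
  have a0 := (inv_cases y (h.inj (by
    rw [map_mul, map_one, ← e', conj_mul, sqV hx]; simp))).resolve_right b0
  have s := sylV (sjt h) f b0 y.c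
  rw [show jt j ⟨y.b, 0, y.c⟩ = j y from congrArg j (T3.ext a0.symm rfl (by simp [tau_def])),
    ← top_inf_eq (Cen1 _)] at s
  obtain ⟨g, -, e1, e2⟩ := ext0 s (H5.isPGroup_of_elem (elemV j)) (le_inf le_top (VC j hx))
    (cj_top.2 e)
  exact hn (e1 ▸ cmem (wc h fun c hc => jt_range j ▸ mapS _ _ (e2 c hc)) hx)

theorem nrm (hO : oddCore G = ⊥) (hc : ⊤ ≤ Cen (ZZ j)) : Nor j.range = ⊤ := by
  obtain ⟨X, _, _, f, hf, hk⟩ := exists_hom_ker_eq (cnor hc)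
  have ZS := mapS j Z0
  have lt : j.range ≤ ⊤ := le_top
  have f1 : ∀ x : T3, jq lt f x = 1 ↔ x.a = 0 ∧ x.b = 0 := fun x =>
    (map_eq_one_iff_of_ker hk).trans (h.mem_map.trans mem_Z0)
  have e0 : im f j.range = (jq lt f).range := by
    rw [MonoidHom.range_eq_map, MonoidHom.range_eq_map, jq_map]
  have fe : ∀ x y : T3, jq lt f x = jq lt f y ↔ x.a = y.a ∧ x.b = y.b := fun x y => by
    rw [← mul_inv_eq_one, ← map_inv, ← map_mul, f1]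
    revert x y; decide +kernel
  have nn : ∀ g : (⊤ : Subgroup G), f g ∈ Nor (im f j.range) → (g : G) ∈ Nor j.range := fun g hg => by
    have e := pre_normalizer_le _ (coe_mem_pre.2 hg)
    rwa [pre_im_of_le hk ZS le_top] at e
  have ac : ∀ (g : (⊤ : Subgroup G)) x y, g * j x * (g : G)⁻¹ = j y →
      f g * jq lt f x * (f g)⁻¹ = jq lt f y := fun g x y e => by
    rw [jq_apply, jq_apply, ← map_inv, ← map_mul, ← map_mul]
    exact congrArg f (Subtype.ext e)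
  have hT := h.syl.im (f := f) le_rfl
  rw [im_self hf] at hT
  have key := Ly.abel_normal hT ⟨H5.isMulCommutative_of_forall ?_, ?_⟩ ?_
    (W.core_central hf hk (h.syl.isPGroup.to_le ZS) le_top hc (by
      rw [← hO]; exact pPrimeCoreIn_top 2)) ?_ (a := jq lt f ⟨1, 0, 0⟩) (e0 ▸ ⟨_, rfl⟩)
    (mt (f1 _).1 (by simp)) (b := jq lt f ⟨0, 1, 0⟩) (e0 ▸ ⟨_, rfl⟩) (mt (f1 _).1 (by simp)) ?_
  · exact eq_top_iff.2 fun g hg => nn ⟨g, hg⟩ (key ▸ mem_top _)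
  · rw [e0]
    rintro _ ⟨a, rfl⟩ _ ⟨b, rfl⟩
    rw [← map_mul, ← map_mul, fe]
    exact ⟨add_comm _ _, add_comm _ _⟩
  · rw [e0]
    rintro _ ⟨a, rfl⟩
    rw [sq, ← map_mul, f1]
    exact ⟨aa _, aa _⟩
  · have := card_eq_card_im_mul hk (le_top : j.range ≤ ⊤)
    rw [inf_eq_right.2 ZS, h.card_S, T3.card_T3, card_Z h] at this
    omega
  · intro t ht t1 w hw
    obtain ⟨g, rfl⟩ := hf w
    obtain ⟨l, m, ty⟩ := exists_ty h (nn g hw.2)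
    rw [e0] at ht ⊢
    obtain ⟨s, rfl⟩ := ht
    obtain ⟨s', e, a1, a2, -⟩ := ty.2.2.2 s
    have e1 := (fe _ _).1 ((ac g _ _ e).symm.trans (c1'.1 hw.1))
    have e2 := congrArg T3.c (h.inj ((ty.z 1).symm.trans (c1'.1 (c1.2 (cen.1 (hc g.2) _ (mZ j 1))))))
    obtain ⟨rfl, rfl⟩ := (by decide +kernel : ∀ l m a b : F4, l * m * 1 = 1 → l * a = a → m * b = b →
      ¬ (a = 0 ∧ b = 0) → l = 1 ∧ m = 1) l m s.a s.b e2 (a1 ▸ e1.1) (a2 ▸ e1.2) (mt (f1 _).2 t1)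
    refine cen.2 ?_
    rintro _ ⟨x, rfl⟩
    obtain ⟨x', e, a1, a2, -⟩ := ty.2.2.2 x
    rw [← mul_inv_eq_iff_eq_mul, ac g _ _ e, fe]
    exact ⟨a1.trans (one_mul _), a2.trans (one_mul _)⟩
  · intro w hw e1
    obtain ⟨g, rfl⟩ := hf w
    obtain ⟨l, m, ty⟩ := exists_ty h (nn g hw)
    obtain ⟨d, e⟩ := ty.v 1 0
    simpa using ((fe _ _).1 ((ac g _ _ e).symm.trans e1)).2

theorem locZ : Cen (ZZ j) ≤ Nor (j.range ⊔ Oo (Cen (ZZ j))) := by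
  obtain ⟨X, _, _, f, hf, hk⟩ := exists_hom_ker_eq (lOo (Cen (ZZ j)))
  have hN := odd_Oo (Cen (ZZ j))
  have hO : pPrimeCore 2 X = ⊥ := by
    rw [← pPrimeCoreIn_top, ← im_self hf]; exact pPrimeCoreIn_im_eq_bot hf hk le_rfl
  have k := nrm (h.quot (SZ j) hf hk hN) hO (by
    rw [ZZ, jq_map, ← im_self hf]; exact im_le_centralizer le_rfl)
  rw [← pre_im hk (W.Oo_le _) (SZ j)]
  refine le_normalizer_pre le_rfl (le_top.trans ?_)
  rw [MonoidHom.range_eq_map, ← jq_map (SZ j), ← MonoidHom.range_eq_map]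
  exact k.ge

theorem solvZ : Group.IsSolvable (Cen (ZZ j)) :=
  W.solv_of_syl (h.syl.of_le (SZ j) le_top) (sup_le (SZ j) (W.Oo_le _)) (locZ h) le_sup_left (by
    rw [sup_comm]
    exact H5.isSolvable_sup ((SZ j).trans (lOo _)) (odd_solv (odd_Oo _))
      (H5.isSolvable_of_isPGroup h.syl.isPGroup))

theorem cz0 {z : G} (hz : z ∈ ZZ j) (z1 : z ≠ 1) : Cen1 z ≤ Cen (ZZ j) ⊔ Uo z := by
  obtain ⟨c, rfl⟩ := exZ hz
  have c0 : c ≠ 0 := fun e => z1 (by rw [e]; exact map_one j)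
  have zz : ∀ d, j ⟨0, 0, d⟩ ∈ Cen j.range := fun d => le_cen_symm (SZ j) (mZ j d)
  have s := h.syl.of_le (SC j hz) le_top
  refine (zstar_in (z := j ⟨0, 0, om * c⟩) (h.ord (V_sq _ rfl) fun e =>
    mul_ne_zero (by decide) c0 (congrArg T3.c e)) (SC j hz ⟨_, rfl⟩)
    (s.of_le (le_inf (SC j hz) (SC j (mZ j _))) inf_le_left) ?_).trans (sup_le_sup_right ?_ _)
  · rintro _ ⟨x, rfl⟩ ⟨g, hg, e⟩
    obtain ⟨a1, a2⟩ := ti h c0 (c1'.1 hg) e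
    obtain ⟨n, n1, n2, n3⟩ := W.burnside_fusion s (zz _) hg (by
      rw [e, show x = ⟨0, 0, x.c⟩ from T3.ext a1 a2 rfl]; exact zz _)
    obtain ⟨l, m, ty⟩ := exists_ty h n2
    have e2 := congrArg T3.c (h.inj ((ty.z c).symm.trans (c1'.1 n1)))
    rw [← e, ← n3, ty.z, mul_left_comm, show l * m * c = c from e2]
  · intro g hg
    refine cen.2 fun x hx => ?_
    obtain ⟨x, rfl⟩ := exZ hx
    rcases (by decide +kernel : ∀ c x : F4, c ≠ 0 → (⟨0, 0, x⟩ : T3) = 1 ∨ x = c ∨ x = om * c ∨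
      (⟨0, 0, x⟩ : T3) = ⟨0, 0, c⟩ * ⟨0, 0, om * c⟩) c x c0 with e | rfl | rfl | e
    · simp [e]
    · exact c1.1 hg.1
    · exact c1.1 hg.2
    · rw [e, map_mul, ← mul_assoc, c1.1 hg.1, mul_assoc, c1.1 hg.2, mul_assoc]

theorem CZ_le {z : G} (hz : z ∈ ZZ j) : Cen (ZZ j) ≤ Cen1 z := fun g hg => c1.2 (cen.1 hg z hz)

theorem OZ_le {z : G} (hz : z ∈ ZZ j) (z1 : z ≠ 1) : Oo (Cen (ZZ j)) ≤ Uo z :=
  le_sup_left.trans (le_Oo (sup_le ((W.Oo_le _).trans (CZ_le h hz)) (Uo_le z))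
    ((cz0 h hz z1).trans (sup_le (nsup (lOo _) ((CZ_le h hz).trans (nUo z))) (lnor le_sup_right)))
    (W.odd_sup (((W.Oo_le _).trans (CZ_le h hz)).trans (nUo z)) (odd_Oo _) (odd_Oo _)))

theorem solvz {z : G} (hz : z ∈ ZZ j) (z1 : z ≠ 1) : Group.IsSolvable (Cen1 z) :=
  H5.isSolvable_of_le ((cz0 h hz z1).trans (sup_comm _ _).le) (H5.isSolvable_sup
    ((CZ_le h hz).trans (nUo z)) (odd_solv (odd_Oo _)) (solvZ h))

theorem czN {z : G} (hz : z ∈ ZZ j) (z1 : z ≠ 1) : Cen1 z ≤ Nor (j.range ⊔ Uo z) := by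
  refine (cz0 h hz z1).trans (sup_le ?_ (lnor le_sup_right))
  rw [← sup_eq_right.2 (OZ_le h hz z1), ← sup_assoc]
  exact nsup (locZ h) ((CZ_le h hz).trans (nUo z))

theorem NZ_le : Nor (ZZ j) ≤ Oo (Cen (ZZ j)) ⊔ Nor j.range := by
  have s := h.syl.of_le (SZ j) le_top
  refine (s.sup_normalizer (cnor le_rfl) (ncen le_rfl)).ge.trans
    (sup_le ?_ (inf_le_right.trans le_sup_right))
  exact ((s.of_le le_sup_left (sup_le (SZ j) (W.Oo_le _))).sup_normalizer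
    (sup_le (SZ j) (W.Oo_le _)) (locZ h)).ge.trans (sup_le
      (sup_le (le_normalizer.trans le_sup_right) le_sup_left) (inf_le_right.trans le_sup_right))

theorem cz_le {z : G} (hz : z ∈ ZZ j) (z1 : z ≠ 1) : Cen1 z ≤ Uo z ⊔ Nor j.range :=
  (cz0 h hz z1).trans (sup_le (((cnor le_rfl).trans (NZ_le h)).trans
    (sup_le_sup_right (OZ_le h hz z1) _)) le_sup_left)

/-- elements normalizing `V` and `Z` act on `V` like elements normalizing `S` -/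
theorem act_NS (h1 : g ∈ Nor (VV j)) (h2 : g ∈ Nor (ZZ j)) :
    ∃ n ∈ Nor j.range, ∀ x ∈ VV j, g * x * g⁻¹ = n * x * n⁻¹ := by
  have nO : Nor (ZZ j) ≤ Nor (Oo (Cen (ZZ j))) := (ncen le_rfl).trans (nOo _)
  obtain ⟨o, ho, n, hn, rfl⟩ := (mem_sup_left_iff ((NSZ h).trans nO)).1 (NZ_le h h2)
  refine ⟨n, hn, fun x hx => ?_⟩
  have m := cmem (NSV h hn) hx
  have o1 := (mul_mem_cancel_right (NSV h hn)).1 h1
  generalize e : n * x * n⁻¹ = y at m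
  have : o * y * o⁻¹ * y⁻¹ ∈ VV j ⊓ Oo (Cen (ZZ j)) := mem_inf.2 ⟨mul_mem (cmem o1 m) (inv_mem m),
    mem_of_eq (mul_mem ho (cmem (lOo _ (SZ j (mapS j _ m))) (inv_mem ho))) (by group)⟩
  rw [W.two_odd (H5.isPGroup_of_elem (elemV j)) (odd_Oo _), mem_bot, mul_inv_eq_one] at this
  rw [← this, ← e]; group

end SJ

end P3
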