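import Cfsg.Agent.P3.L
import Cfsg.Agent.H9.Gasch

/-! The case of a normal subgroup `V`: the group is an affine group. -/

set_option autoImplicit false
set_option linter.unusedVariables false
set_option linter.unusedSectionVars false

namespace P3

open Cfsg Subgroup FT H4 H5 GW A8 Matrix
open H2 (F4)

universe u

/-- the group embeds in `PGL₃(4)` -/
def Emb (G : Type*) [Group G] : Prop :=
  ∃ f : G →* ProjGenLinGroup (Fin 3) F4, Function.Injective f

variable {G : Type u} [Group G] [Finite G] {j : T3 →* G} (h : SJ j)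
include h

theorem S_cenV : j.range ⊓ Cen (VV j) ≤ VV j := by
  rintro _ ⟨⟨x, rfl⟩, e⟩
  exact ⟨x, mem_V0.2 ((cen_V ⟨1, 0, 0⟩ x rfl one_ne_zero).1
    (h.comm.1 (c1.2 (cen.1 e _ (mV j 1 0))))), rfl⟩

theorem cenV_of (hO : oddCore G = ⊥) (hN : Nor (VV j) = ⊤) : Cen (VV j) ≤ VV j := by
  have VC : VV j ≤ Cen (VV j) := fun x hx => cen.2 fun y hy => c1.1 (VC j hy hx)
  have s : IsSylowOf 2 (VV j) (Cen (VV j)) := by
    refine isSylowOf_of_maximal VC (isPGroup_of_elem (elemV j)) fun R h1 h2 h3 => ?_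
    obtain ⟨g, -, e⟩ := h.syl.exists_conj_le h1 le_top
    have n : g ∈ Nor (VV j) := hN ▸ mem_top g
    intro x hx
    simpa [mul_assoc] using cmem' n (S_cenV h ⟨e (conj_mem_conjS hx), cmem (mcen n) (h3 hx)⟩)
  have := le_Oo le_top (hN ▸ (ncen le_rfl).trans (nOo (Cen (VV j)))) (odd_Oo _)
  rw [show Oo (⊤ : Subgroup G) = ⊥ from (pPrimeCoreIn_top 2).trans hO] at this
  exact (Burnside_normal_complement s inf_le_left).sup.ge.trans
    (sup_le (this.trans bot_le) le_rfl)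

theorem emb_aff (hO : oddCore G = ⊥) (hN : Nor (VV j) = ⊤) (hL : Nor (VV j) ≤ Li j) : Emb G := by
  have : (VV j).Normal := normalizer_eq_top_iff.1 hN
  have cm : ∀ a ∈ VV j, ∀ b ∈ VV j, a * b = b * a := fun a ha b hb => c1.1 (VC j hb ha)
  have iv : ∀ x, Function.invFun j (j x) = x := Function.leftInverse_invFun h.inj
  obtain ⟨J, h1, h2⟩ := H9.gaschutz_aux (VV j) j.range cm (mapS j _) (by
      rw [card_V h, ← relIndex_top_right]
      exact Nat.Coprime.pow_left 4 (Nat.prime_two.coprime_iff_not_dvd.2 h.syl.3))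
    (fun g => j ⟨(Function.invFun j g).a, 0, (Function.invFun j g).c +
      (Function.invFun j g).a * (Function.invFun j g).b⟩) (fun _ _ => mV j _ _) (by
      rintro _ ⟨x, rfl⟩ _ ⟨y, rfl⟩
      simp only [← map_mul, ← map_inv, iv]
      exact congrArg j (by revert x y; decide +kernel)) fun a ha => by
      obtain ⟨a, c, rfl⟩ := exV ha
      simp [iv]
  have ex : ∀ g : G, ∃ a c, (j ⟨a, 0, c⟩)⁻¹ * g ∈ J := fun g => by
    obtain ⟨v, hv, y, hy, rfl⟩ := (mem_sup_left_iff (le_top.trans hN.ge)).1 (h1.ge (mem_top g))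
    obtain ⟨a, c, rfl⟩ := exV hv
    exact ⟨a, c, by simpa using hy⟩
  choose α γ hy using ex
  have un : ∀ g a c, (j ⟨a, 0, c⟩)⁻¹ * g ∈ J → α g = a ∧ γ g = c := fun g a c e => by
    have : (j ⟨a, 0, c⟩)⁻¹ * j ⟨α g, 0, γ g⟩ ∈ VV j ⊓ J := mem_inf.2
      ⟨mul_mem (inv_mem (mV j _ _)) (mV j _ _), by simpa using mul_mem e (inv_mem (hy g))⟩
    rw [h2, mem_bot, inv_mul_eq_one] at this
    exact ⟨(congrArg T3.a (h.inj this)).symm, (congrArg T3.c (h.inj this)).symm⟩
  choose x y z t ac using fun g => hL (hN ▸ mem_top g)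
  have a1 : ∀ g ∈ VV j, x g = 1 ∧ y g = 0 ∧ z g = 0 ∧ t g = 1 := fun g hg => by
    obtain ⟨a, c, rfl⟩ := exV hg
    exact (ac _).uniq h (ac_S j _)
  let f : G →* Matrix (Fin 3) (Fin 3) F4 :=
    { toFun := fun g => !![x g, y g, α g; z g, t g, γ g; 0, 0, 1]
      map_one' := by
        obtain ⟨b1, b2, b3, b4⟩ := a1 1 (one_mem _)
        obtain ⟨c1, c2⟩ := un 1 0 0 (by rw [← T3.one_def, map_one]; simp)
        rw [b1, b2, b3, b4, c1, c2, one_fin_three]
      map_mul' := fun g g' => by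
        obtain ⟨b1, b2, b3, b4⟩ := (ac (g * g')).uniq h ((ac g).mul (ac g'))
        obtain ⟨c1, c2⟩ := un (g * g') (x g * α g' + y g * γ g' + α g)
          (z g * α g' + t g * γ g' + γ g) (mem_of_eq (mul_mem (hy g) (hy g')) (by
            rw [vadd, ← ac g]
            group))
        rw [b1, b2, b3, b4, c1, c2, mul_fin_three]
        simp }
  refine ⟨ProjGenLinGroup.mk.comp f.toHomUnits, (injective_iff_map_eq_one _).2 fun g e => ?_⟩
  obtain ⟨l, e⟩ := GeneralLinearGroup.mem_center_iff_val_mem_range_scalar.1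
    (ProjGenLinGroup.mk_eq_one.1 e)
  have k := fun a b => congrFun (congrFun e a) b
  have k1 := k 0 0
  have k2 := k 0 1
  have k3 := k 1 0
  have k4 := k 1 1
  have k5 := k 0 2
  have k6 := k 1 2
  have k7 := k 2 2
  simp [f] at k1 k2 k3 k4 k5 k6 k7
  obtain ⟨a, c, rfl⟩ := exV (cenV_of h hO hN (cen.2 fun v hv => by
    obtain ⟨a, c, rfl⟩ := exV hv
    rw [← mul_inv_eq_iff_eq_mul, ac g, ← k1, ← k2, ← k3, ← k4, k7]
    simp : g ∈ _))
  obtain ⟨c1, c2⟩ := un (j ⟨a, 0, c⟩) a c (by simp)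
  rw [← k5.trans c1, ← k6.trans c2, ← T3.one_def, map_one]

theorem emb_nor (hO : oddCore G = ⊥) (hN : Nor (VV j) = ⊤) : Emb G :=
  let ⟨_, h', e, l⟩ := exists_lin h
  emb_aff h' hO (e ▸ hN) l

end P3
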