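import Cfsg.Agent.A8.J
import Cfsg.Agent.W.Main
import Cfsg.Agent.CIT.B1

/-! Counting products of involutions. -/

set_option autoImplicit false
set_option linter.unusedVariables false
set_option linter.unusedSectionVars false

namespace P3

open Cfsg Subgroup FT H4 H5 GW
open MT (Cj o2 isConj_mk cj_top cj_mk card_cj)

universe u

variable {G : Type u} [Group G] [Finite G]

theorem card_cjQ (L : Subgroup G) (a : G) (Q : G → Prop) :
    Nat.card {x // Cj L a x ∧ Q x} * Nat.card ↥(L ⊓ Cen1 a) =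
      Nat.card {g // g ∈ L ∧ Q (g * a * g⁻¹)} := by
  refine (H9.card_eq_mul_of_fibers _ (fun x => Cj L a x ∧ Q x) (fun g => g * a * g⁻¹)
    (fun g hg => ⟨cj_mk hg.1 a, hg.2⟩) _ ?_).symm
  rintro _ ⟨⟨k, hk, rfl⟩, hq⟩
  have e : ∀ c ∈ L ⊓ Cen1 a, k * c * a * (k * c)⁻¹ = k * a * k⁻¹ := fun c hc => by
    calc _ = k * (c * a * c⁻¹) * k⁻¹ := by group
      _ = _ := by rw [c1'.1 hc.2]
  refine Nat.card_congr ⟨fun g => ⟨k⁻¹ * g.1, L.mul_mem (L.inv_mem hk) g.2.1.1, c1'.2 ?_⟩,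
    fun c => ⟨k * c.1, ⟨L.mul_mem hk c.2.1, (e _ c.2).symm ▸ hq⟩, e _ c.2⟩, fun g => by simp,
    fun c => by simp⟩
  calc k⁻¹ * g.1 * a * (k⁻¹ * g.1)⁻¹ = k⁻¹ * (g.1 * a * g.1⁻¹) * k := by group
    _ = a := by rw [g.2.2]; group

theorem rel_cj' (L : Subgroup G) (a : G) : (Cen1 a).relIndex L = Nat.card {x // Cj L a x} := by
  have e := card_inf_mul_relIndex (Cen1 a) L
  rw [← card_cj L a, inf_comm, mul_comm] at e
  exact Nat.eq_of_mul_eq_mul_right Nat.card_pos e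

theorem inv_pair {a t : G} (ha : a * a = 1) (ht : t * t = 1) {u : G} (hu : u ∈ zpowers (a * t))
    (u2 : u * u = 1) : u ∈ Cen1 a ∧ u ∈ Cen1 t := by
  have k : ∀ {a t : G}, a * a = 1 → t * t = 1 → u ∈ zpowers (a * t) → u ∈ Cen1 a :=
    fun {a t} ha ht hu => by
      obtain ⟨i, rfl⟩ := hu
      have e : a * (a * t) * a⁻¹ = (a * t)⁻¹ := by
        rw [← mul_assoc, ha, one_mul, mul_inv_rev, inv_eq_of_mul_eq_one_right ht]
      refine c1s.1 (c1'.2 ?_)
      rw [← conj_zpow, e, inv_zpow, inv_eq_of_mul_eq_one_right u2]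
  refine ⟨k ha ht hu, k ht ha ?_⟩
  rwa [← zpowers_inv, mul_inv_rev, inv_eq_of_mul_eq_one_right ht,
    inv_eq_of_mul_eq_one_right ha] at hu

theorem l2_cnt {L S : Subgroup G} (p : W.Pkg L S) (h4 : Nat.card S = 4) {a : G}
    (ha : orderOf a = 2) : Nat.card G < 3 * Nat.card {g : G // Odd (orderOf (a * (g * a * g⁻¹)))} := by
  obtain ⟨-, q, τ, σ, f⟩ := p.lf gwThm h4
  obtain ⟨T, eT⟩ := p.as.syl.exists_sylow_top
  have nL := p.nor
  have iL : ∀ b : G, orderOf b = 2 → b ∈ L := fun b hb => by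
    obtain ⟨k, -, e⟩ := p.as.conj_in (mem_top b) (ii hb)
    simpa [mul_assoc] using nL.conj_mem _ (p.le e) k⁻¹
  have c2 : ∀ b : G, orderOf b = 2 → 2 * Nat.card (Kt L b) = τ := fun b hb => by
    have := f.card_in iL b hb T
    rw [eT, h4] at this
    omega
  have nb : ∀ b : G, orderOf b = 2 → {u | orderOf u = 2 ∧ u ∈ Cen1 b ∧ u ≠ b}.ncard ≤ τ :=
    fun b hb => by
    obtain ⟨c, -, oc, cc, ne⟩ := f.ex_four b (iL b hb) hb
    have f4 : F4 b c := ⟨hb, oc, cc, ne.symm⟩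
    have s : IsSylowOf 2 (V4 b c) (Cen1 b) := (p.as.syl.of_card_le f4.two_V le_top
      (by rw [h4, f4.card_V])).of_le (V_le (c1.2 rfl) f4.aH) le_top
    have r : ∀ d, F4 b d → {u | Cj (Cen1 b) d u}.ncard = Nat.card (Kt L b) := fun d hd => by
      have := f.rel b (iL b hb) d hb hd.ha hd.comm hd.ne.symm T
      rw [eT, h4, rel_cj'] at this
      exact (Nat.card_coe_set_eq _).symm.trans (Nat.eq_of_mul_eq_mul_left (by norm_num) this)
    rw [← c2 b hb, two_mul]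
    nth_rewrite 1 [← r c f4]
    rw [← r _ f4.mul]
    refine (Set.ncard_le_ncard fun u hu => ?_).trans (Set.ncard_union_le _ _)
    obtain ⟨k, hk, e⟩ := MT.conj_in2 s hu.2.1 (ii hu.1)
    rcases f4.mem_V.1 e with e | e | e | e
    · exact (ine (iconj hu.1 k) e).elim
    · exact (hu.2.2 (mul_left_cancel (mul_right_cancel (e.trans (c1'.1 hk).symm)))).elim
    · exact Or.inl (MT.Cj.symm ⟨k, hk, e⟩)
    · exact Or.inr (MT.Cj.symm ⟨k, hk, e⟩)
  have e1 := CIT.ncard_le_mul (I := {t | Cj ⊤ a t ∧ ¬ Odd (orderOf (a * t))})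
    (s := {u | orderOf u = 2 ∧ u ∈ Cen1 a ∧ u ≠ a})
    (F := fun b => {u | orderOf u = 2 ∧ u ∈ Cen1 b ∧ u ≠ b}) (m := τ) (fun t ht => by
      have ot : orderOf t = 2 := by obtain ⟨g, -, rfl⟩ := ht.1; exact iconj ha g
      obtain ⟨u, ou, hu⟩ := H9.exists_inv_mem_zpowers (Nat.not_odd_iff_even.1 ht.2).two_dvd
      obtain ⟨u1, u2⟩ := inv_pair (ii ha) (ii ot) hu (ii ou)
      have k : a ∈ zpowers (a * t) → False := fun e => ht.2 (by
        rw [← inv_uniq e (by simpa using mul_mem (inv_mem e) (mem_zpowers _)) ha ot, ii ha]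
        simp)
      exact ⟨u, ⟨ou, u1, fun e => k (e ▸ hu)⟩, ot, c1s.1 u2, fun e => k (by
        rw [← e] at hu
        simpa using mul_mem (mem_zpowers (a * t)) (inv_mem hu))⟩) fun b hb => nb b hb.1
  have e2 := e1.trans (Nat.mul_le_mul_right τ (nb a ha))
  have e3 := H9.card_subtype_split (Cj ⊤ a) fun t => Odd (orderOf (a * t))
  have e4 := card_cjQ ⊤ a fun t => Odd (orderOf (a * t))
  have e5 := card_cj ⊤ a
  have e6 := f.idx a (iL a ha) ha
  rw [← relIndex_top_right, rel_cj'] at e6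
  have e7 : Odd (Nat.card (Kt L a)) := BS.odd_of_no_inv fun x hx hi => by
    have := (f.mem_K a ha x hx).2.2
    rw [o2 hi.2 hi.1] at this
    exact absurd this (by decide)
  rw [← Nat.card_coe_set_eq] at e2
  simp only [mem_top, true_and] at e4
  rw [← e4, ← card_top, ← e5, ← mul_assoc]
  refine Nat.mul_lt_mul_of_pos_right ?_ Nat.card_pos
  have e8 := c2 a ha
  have e9 := f.five
  obtain ⟨k, hk⟩ := e7
  change Nat.card {t // Cj ⊤ a t ∧ ¬ Odd (orderOf (a * t))} ≤ _ at e2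
  have : 3 * (τ * τ) < 2 * (q * σ) := by
    rcases f.num with ⟨rfl, rfl⟩ | ⟨e, e'⟩
    · nlinarith
    · obtain rfl : τ = σ + 1 := e'.symm
      obtain rfl : q = 2 * σ + 1 := by omega
      have : 5 ≤ σ := by omega
      nlinarith
  omega

theorem pull_cnt {X : Type*} [Group X] [Finite X] {K N : Subgroup G} {f : K →* X}
    (hf : Function.Surjective f) (hk : f.ker = N.subgroupOf K) (hN : Odd (Nat.card N)) {a : G}
    (ha : a ∈ K) (h : Nat.card X < 3 * Nat.card {g : X //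
      Odd (orderOf (f ⟨a, ha⟩ * (g * f ⟨a, ha⟩ * g⁻¹)))}) :
    Nat.card {x // Cj K a x} < 3 * Nat.card {x // Cj K a x ∧ Odd (orderOf (a * x))} := by
  have k : ∀ B : X → Prop, Nat.card {g : K // B (f g)} = Nat.card {b // B b} * Nat.card f.ker :=
    fun B => H9.card_eq_mul_of_fibers _ B f (fun _ => id) _ fun b hb => by
      obtain ⟨c, rfl⟩ := hf b
      exact Nat.card_congr ⟨fun g => ⟨c⁻¹ * g.1, by simp [g.2.2]⟩, fun g => ⟨c * g.1, by
        simp [hb, MonoidHom.mem_ker.1 g.2]⟩, fun g => by simp, fun g => by simp⟩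
  have e1 := k fun _ => True
  have e2 := k fun g => Odd (orderOf (f ⟨a, ha⟩ * (g * f ⟨a, ha⟩ * g⁻¹)))
  have e3 : Nat.card {g : K // Odd (orderOf (f ⟨a, ha⟩ * (f g * f ⟨a, ha⟩ * (f g)⁻¹)))} ≤
      Nat.card {g // g ∈ K ∧ Odd (orderOf (a * (g * a * g⁻¹)))} :=
    Nat.card_le_card_of_injective (fun g => ⟨g.1, g.1.2, by
      have := g.2
      rw [← map_inv, ← map_mul, ← map_mul, ← map_mul] at this
      have e := odd_ord hN ((map_eq_one_iff_of_ker hk).1 ((map_pow f _ _).trans (pow_orderOf_eq_one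
        (f (⟨a, ha⟩ * (g.1 * ⟨a, ha⟩ * g.1⁻¹))))))
      exact Odd.of_dvd_nat (this.mul e) (orderOf_dvd_of_pow_eq_one (by
        rw [pow_mul]; exact pow_orderOf_eq_one _))⟩)
      fun a b e => Subtype.ext (Subtype.ext (Subtype.mk.inj e))
  rw [Nat.card_subtype_true, Nat.card_subtype_true] at e1
  rw [← card_cjQ K a fun x => Odd (orderOf (a * x)), e2] at e3
  refine Nat.lt_of_mul_lt_mul_right (a := Nat.card ↥(K ⊓ Cen1 a)) ?_
  rw [card_cj, e1, mul_assoc]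
  exact ((Nat.mul_lt_mul_of_pos_right h Nat.card_pos).trans_eq (mul_assoc _ _ _)).trans_le
    (Nat.mul_le_mul_left 3 e3)

theorem side {z x : G} (hz : orderOf z = 2) (hx : orderOf x = 2) (c : x ∈ Cen1 z)
    (e : IsConj x (x * z)) (h : Nat.card {t // Cj (Cen1 x) z t} <
      3 * Nat.card {t // Cj (Cen1 x) z t ∧ Odd (orderOf (z * t))}) :
    Nat.card {y // Cj ⊤ z y} * Nat.card {y // Cj (Cen1 z) x y} ^ 2 <
      3 * Nat.card {y // Cj ⊤ x y} ^ 2 := by
  have e1 : Nat.card {y // Cj (Cen1 z) x y} *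
      Nat.card {t // Cj (Cen1 x) z t ∧ Odd (orderOf (z * t))} ≤ Nat.card {y // Cj ⊤ x y} := by
    choose γ h1 h2 using fun y : {y // Cj (Cen1 z) x y} => y.2
    have k : ∀ (y : {y // Cj (Cen1 z) x y}) (t : G), Cj (Cen1 x) z t ∧ Odd (orderOf (z * t)) →
        y.1 ∈ zpowers (z * (γ y * (x * t) * (γ y)⁻¹)) := fun y t ht => by
      have m : Commute x (z * t) := (c1.1 (mul_mem (c1s.1 c) (ht.1.mem (c1s.1 c)))).symm
      obtain ⟨n, hn⟩ := ht.2
      refine ⟨(2 * n + 1 : ℕ), ?_⟩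
      simp only [zpow_natCast]
      nth_rewrite 1 [← c1'.1 (h1 y)]
      rw [conj_mul, conj_pow, ← mul_assoc z, ← c1.1 c, mul_assoc x, m.mul_pow, ← hn,
        pow_orderOf_eq_one, hn, pow_succ, pow_mul, ← hx, pow_orderOf_eq_one, ← h2 y]
      simp
    rw [← Nat.card_prod]
    refine Nat.card_le_card_of_injective (fun p => ⟨γ p.1 * (x * p.2) * (γ p.1)⁻¹, ?_⟩) ?_
    · obtain ⟨g, hg, e'⟩ := p.2.2.1
      refine cj_top.2 ((e.trans ?_).trans (isConj_mk _ _))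
      rw [← e', ← c1'.1 hg, conj_mul, c1'.1 hg]
      exact isConj_mk _ _
    · rintro ⟨y, t⟩ ⟨y', t'⟩ e'
      have e2 := congrArg Subtype.val e'
      simp only at e2
      obtain rfl : y = y' := Subtype.ext (inv_uniq (k y t t.2) (e2 ▸ k y' t' t'.2)
        (h2 y ▸ iconj hx _) (h2 y' ▸ iconj hx _))
      exact congrArg _ (Subtype.ext (by simpa using e2))
  have e2 := card_cj ⊤ x
  have e3 := card_cj ⊤ z
  have e4 := card_cj (Cen1 x) z
  have e5 := card_cj (Cen1 z) x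
  rw [top_inf_eq] at e2 e3
  rw [inf_comm] at e5
  rw [← e4] at e2
  rw [← e5, ← e2, ← mul_assoc, ← mul_assoc] at e3
  have e6 := Nat.eq_of_mul_eq_mul_right Nat.card_pos e3
  have p1 : 0 < Nat.card {y // Cj ⊤ x y} := Nat.card_pos_iff.2 ⟨⟨x, MT.Cj.refl _ _⟩, inferInstance⟩
  have p2 : 0 < Nat.card {y // Cj (Cen1 z) x y} :=
    Nat.card_pos_iff.2 ⟨⟨x, MT.Cj.refl _ _⟩, inferInstance⟩
  rw [sq, ← mul_assoc, e6]
  nlinarith [Nat.mul_lt_mul_of_pos_left h (Nat.mul_pos p1 p2), Nat.mul_le_mul_left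
    (3 * Nat.card {y // Cj ⊤ x y}) e1]

end P3
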