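import Cfsg.Agent.P3.A
import Cfsg.Agent.P3.Cnt
import Cfsg.Agent.SF.B
import Cfsg.Agent.H8.Smith1

/-! Groups of type `L₃(4)` with a strongly closed elementary subgroup of order 16. -/

set_option autoImplicit false
set_option linter.unusedVariables false
set_option linter.unusedSectionVars false

namespace P3

open Cfsg Subgroup FT H4 H5 GW A8
open H2 (F4)
open MT (Cj o2 isConj_mk cj_top cj_mk ext0 zstar_in conj_in2)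

universe u

variable {G : Type u} [Group G] [Finite G]

structure SCl (S V M : Subgroup G) : Prop where
  syl : IsSylowOf 2 S ⊤
  sq : ∀ x ∈ V, x * x = 1
  SM : S ≤ M
  sc : ∀ x ∈ V, ∀ y ∈ S, IsConj x y → y ∈ V
  ctl : ∀ x ∈ V, ∀ y ∈ V, IsConj x y → Cj M x y
  cen : ∀ a ∈ V, a ≠ 1 → Cen1 a ≤ M

/-- conjugates of nonidentity elements of `V` -/
def Vc (V : Subgroup G) (t : G) : Prop := ∃ a ∈ V, a ≠ 1 ∧ IsConj a t

theorem Vc.conj {V : Subgroup G} {t u : G} (h : Vc V t) (e : IsConj t u) : Vc V u :=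
  let ⟨a, h1, h2, h3⟩ := h; ⟨a, h1, h2, h3.trans e⟩

theorem cen_cj {M : Subgroup G} {x y : G} (e : Cj M x y) (h : Cen1 x ≤ M) : Cen1 y ≤ M := by
  obtain ⟨g, hg, rfl⟩ := e
  rw [← conj_c1, ← conjS_eq_of_mem hg]
  exact conjS_mono g h

namespace SCl

variable {S V M : Subgroup G} (h : SCl S V M) {t g a b : G}
include h

theorem ord (v : Vc V t) : orderOf t = 2 := by
  obtain ⟨a, h1, h2, h3⟩ := v
  obtain ⟨g, rfl⟩ := isConj_iff.1 h3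
  exact iconj (o2 (h.sq a h1) h2) g

theorem cj (ha : a ∈ V) (a1 : a ≠ 1) (e : IsConj a t) (ht : t ∈ M) : Cj M a t := by
  obtain ⟨m, hm, e'⟩ := conj_in2 (h.syl.of_le h.SM le_top) ht (ii (h.ord ⟨a, ha, a1, e⟩))
  have := e.trans (isConj_mk m t)
  exact (h.ctl a ha _ (h.sc a ha _ e' this) this).trans (cj_mk hm t).symm

theorem cenM (v : Vc V t) (ht : t ∈ M) : Cen1 t ≤ M :=
  let ⟨a, h1, h2, h3⟩ := v; cen_cj (h.cj h1 h2 h3 ht) (h.cen a h1 h2)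

theorem mem (v : Vc V t) (ht : t ∈ M) (hg : g * t * g⁻¹ ∈ M) : g ∈ M := by
  have c := h.cenM v ht
  obtain ⟨a, h1, h2, h3⟩ := v
  obtain ⟨m, hm, e⟩ := (h.cj h1 h2 h3 ht).symm.trans (h.cj h1 h2 (h3.trans (isConj_mk g t)) hg)
  refine (mul_mem_cancel_left (inv_mem hm)).1 (c (c1'.2 ?_))
  calc _ = m⁻¹ * (g * t * g⁻¹) * m := by group
    _ = t := by rw [← e]; group

theorem mul (va : Vc V a) (vb : Vc V b) (c : a * b = b * a) (ne : b ≠ a) : Vc V (a * b) := by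
  have f : GW.F4 a b := ⟨h.ord va, h.ord vb, c, ne⟩
  obtain ⟨k, -, e⟩ := h.syl.exists_conj_le f.two_V le_top
  have key : ∀ x ∈ V4 a b, Vc V x → k * x * k⁻¹ ∈ V := fun x hx ⟨y, h1, _, h3⟩ =>
    h.sc y h1 _ (e (conj_mem_conjS hx)) (h3.trans (isConj_mk k x))
  refine ⟨_, ?_, ine (iconj f.hta k), (isConj_mk k _).symm⟩
  rw [← conj_mul]
  exact mul_mem (key a (t_V a b) va) (key b (a_V a b) vb)

theorem swap (va : Vc V a) (vb : Vc V b) (ha : a ∈ M) (hb : b ∉ M) : ∃ u, u * u = 1 ∧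
    u * a * u⁻¹ = b ∧ IsConj a u ∧ ∀ L : Subgroup G, a ∈ L → b ∈ L → u ∈ L := by
  have aa := ii (h.ord va)
  have bb := ii (h.ord vb)
  have d : ∀ k : ℕ, IsConj a (a * (a * b) ^ k) ∨ IsConj b (a * (a * b) ^ k) := fun k => by
    obtain ⟨m, e⟩ := SF.dihedral_conj aa bb k
    rcases e with e | e <;> rw [e]
    · exact Or.inl (by simpa using isConj_mk ((a * b) ^ m)⁻¹ a)
    · exact Or.inr (by simpa using isConj_mk ((a * b) ^ m)⁻¹ b)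
  rcases H8.dihedral_cases aa bb with ⟨k, h1, h2, h3, h4⟩ | ⟨k, h1, h2⟩
  · have v := h.mul va ((d k).elim va.conj vb.conj) (by rw [mul_assoc, ← h3]) (by simpa using h1)
    rw [← mul_assoc, aa, one_mul] at v
    exact (hb (h.cenM v (h.cenM va ha (c1.2 h3.symm)) (c1.2 h4))).elim
  · refine ⟨_, h1, h2, ?_, fun L a1 a2 => mul_mem (pow_mem (mul_mem a1 a2) k) a1⟩
    refine ((d k).elim id (h2 ▸ isConj_mk _ a : IsConj a b).trans).trans ?_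
    simpa [mul_assoc] using isConj_mk a⁻¹ (a * (a * b) ^ k)

theorem one_class (hM : M ≠ ⊤) (ha : a ∈ V) (a1 : a ≠ 1) (hb : b ∈ V) (b1 : b ≠ 1) : IsConj a b := by
  obtain ⟨g, hg⟩ : ∃ g, g ∉ M := by
    by_contra! e
    exact hM (eq_top_iff.2 fun g _ => e g)
  have vb : Vc V b := ⟨b, hb, b1, IsConj.refl b⟩
  obtain ⟨u, -, e, -⟩ := h.swap ⟨a, ha, a1, IsConj.refl a⟩ (vb.conj (isConj_mk g b))
    (h.cen a ha a1 (c1.2 rfl)) fun e => hg (h.mem vb (h.cen b hb b1 (c1.2 rfl)) e)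
  exact (e ▸ isConj_mk u a : IsConj a _).trans (isConj_mk g b).symm

/-- the stabilizer of two points is solvable -/
theorem solv {u : G} (vu : Vc V u) (hu : u ∉ M) (hs : Group.IsSolvable (Cen1 u)) :
    Group.IsSolvable ↥(M ⊓ conjS u M) := by
  have o := h.ord vu
  have n : u ∈ Nor (M ⊓ conjS u M) := by
    rw [mem_normalizer_iff_conjS, conjS_inf, conjS_conjS, ii o, conjS_one, inf_comm]
  have uX : u ∈ M ⊓ conjS u M ⊔ zpowers u := mem_sup_right (mem_zpowers u)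
  obtain ⟨P, hP⟩ := exists_isSylowOf 2 ((M ⊓ conjS u M ⊔ zpowers u) ⊓ Cen1 u)
  have := zstar_in o uX hP fun x hx ⟨y, hy, e⟩ => by
    by_contra ne
    have v := h.mul vu (vu.conj (e ▸ isConj_mk y u)) (c1.1 (hP.le hx).2).symm ne
    have m : u * x ∈ M ⊓ conjS u M := by
      obtain ⟨d, hd, v, hv, rfl⟩ := (mem_sup_left_iff (zpowers_le.2 n)).1 hy
      have e1 : x = d * u * d⁻¹ := by
        rw [← e, show d * v * u * (d * v)⁻¹ = d * (v * u * v⁻¹) * d⁻¹ by group,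
          c1'.1 (zpowers_le.2 (c1.2 rfl : u ∈ Cen1 u) hv)]
      rw [e1]
      exact mem_of_eq (mul_mem (cmem n hd) (inv_mem hd)) (by rw [iinv o]; group)
    exact hu (by simpa using inv_mem (h.mem (g := u⁻¹) v m.1 (by simpa using mem_conjS.1 m.2)))
  exact H5.isSolvable_of_le (le_sup_left.trans (this.trans (sup_comm _ _).le)) (H5.isSolvable_sup
    (inf_le_left.trans (lOo _)) (odd_solv (odd_Oo _)) (H5.isSolvable_of_le inf_le_right hs))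

end SCl

section SJ

variable {j : T3 →* G} (h : SJ j) {K : Subgroup G} {a c : F4} {n : G}
include h

theorem asV (f : ¬ FV j) (a0 : a ≠ 0) (c : F4) : W.AS (VV j) (Cen1 (j ⟨a, 0, c⟩)) :=
  ⟨sylV h f a0 c, (elemV j).1⟩

theorem ty_fix (f : ¬ FV j) (a0 : a ≠ 0) (n1 : n ∈ Cen1 (j ⟨a, 0, c⟩)) (n2 : n ∈ Nor (VV j)) :
    ∃ n' m, Ty j n' 1 m ∧ ∀ x ∈ VV j, n * x * n⁻¹ = n' * x * n'⁻¹ := by
  obtain ⟨n', hn, e⟩ := act_NS h n2 (NVZ h f n2)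
  obtain ⟨l, m, t⟩ := exists_ty h hn
  have := (t.get h ((e _ (mV j a c)).symm.trans (c1'.1 n1))).1
  obtain rfl : l = 1 := by simpa [a0] using this
  exact ⟨n', m, t, e⟩

theorem comp (f : ¬ FV j) (a0 : a ≠ 0) (hK : PCompIn 2 (Cen1 (j ⟨a, 0, c⟩)) K) :
    VV j ⊓ K = ZZ j := by
  have as := asV h f a0 c
  refine eq_of_le_of_card_ge (le_trans (inf_le_inf_left _ (hK.perfect.ge.trans
    (commutator_mono hK.le hK.le))) (as.focal fun x hx n n1 n2 => ?_)) ?_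
  · obtain ⟨n', m, t, e⟩ := ty_fix h f a0 n1 n2
    obtain ⟨b, d, rfl⟩ := exV hx
    obtain ⟨d', e'⟩ := t.v b d
    rw [e _ hx, e', ← map_inv, ← map_mul]
    exact ⟨_, mem_Z0.2 (by simp [T3.mul_def, T3.inv_def, aa]), rfl⟩
  · rw [card_Z h]
    exact ((as.sn hK.sn).four hK.perfect hK.pqs.ne_bot).trans (card_le_of_le (W.Om_le _))

theorem oz {d : F4} (d0 : d ≠ 0) : orderOf (j ⟨0, 0, d⟩) = 2 :=
  h.ord (V_sq _ rfl) fun e => d0 (congrArg T3.c e)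

theorem ov (a0 : a ≠ 0) (c : F4) : orderOf (j ⟨a, 0, c⟩) = 2 :=
  h.ord (V_sq _ rfl) fun e => a0 (congrArg T3.a e)

theorem exists_h (f : ¬ FV j) (a0 : a ≠ 0) (hK : PCompIn 2 (Cen1 (j ⟨a, 0, c⟩)) K) :
    ∃ n m, m ≠ 1 ∧ Ty j n 1 m := by
  by_contra! hn
  refine ine (oz h one_ne_zero) ((asV h f a0 c).fix_eq_one (mV j 0 1) (commutator_mono hK.le hK.le
    (hK.perfect.ge ((comp h f a0 hK).ge (mZ j 1)).2)) fun n n1 n2 => ?_)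
  obtain ⟨n', m, t, e⟩ := ty_fix h f a0 n1 n2
  by_cases m1 : m = 1
  · rw [e _ (mV j 0 1), t.z, m1]; simp
  · exact (hn n' m m1 t).elim

theorem cnt_side (f : ¬ FV j) (a0 : a ≠ 0) (hK : PCompIn 2 (Cen1 (j ⟨a, 0, c⟩)) K) :
    Nat.card {y // Cj ⊤ (j ⟨0, 0, 1⟩) y} *
      Nat.card {y // Cj (Cen1 (j ⟨0, 0, 1⟩)) (j ⟨a, 0, c⟩) y} ^ 2 <
      3 * Nat.card {y // Cj ⊤ (j ⟨a, 0, c⟩) y} ^ 2 := by
  have as := (asV h f a0 c).sn hK.sn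
  rw [comp h f a0 hK] at as
  obtain ⟨X, _, _, φ, hf, hk, p, -⟩ := as.exists_loc hK.pqs le_rfl le_normalizer
  rw [as.K_inf_CM hK.perfect] at hk
  have c4 : Nat.card (im φ (ZZ j)) = 4 := by
    rw [card_im_of_disjoint hk as.le (W.two_odd as.two (odd_Oo K)), card_Z h]
  have o := oz h one_ne_zero
  have zK := as.le (mZ j 1)
  have e1 := pull_cnt hf hk (odd_Oo K) zK (l2_cnt p c4 (lf_ord hf hk zK o))
  have e2 : ∀ t, Cj (Cen1 (j ⟨a, 0, c⟩)) (j ⟨0, 0, 1⟩) t ↔ Cj K (j ⟨0, 0, 1⟩) t := fun t => by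
    refine ⟨?_, fun e => e.mono hK.le⟩
    rintro ⟨g, hg, rfl⟩
    have k := hK.conjS_of_mem hg
    have m : g * j ⟨0, 0, 1⟩ * g⁻¹ ∈ K := hK.eq_of_sylow_le k as.syl
      ((comp h f a0 k).ge.trans inf_le_right) ▸ conj_mem_conjS zK
    obtain ⟨-, q, τ, σ, lf⟩ := p.lf gwThm c4
    obtain ⟨l, -, e⟩ := lf.conj _ (mem_im_of_mem zK zK) _ (mem_im_of_mem m m) (lf_ord hf hk zK o)
      (lf_ord hf hk m (iconj o g))
    exact MT.lift_cj hf hk (odd_Oo K) (a := ⟨_, zK⟩) (b := ⟨_, m⟩) o (iconj o g)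
      (isConj_iff.2 ⟨l, e⟩)
  refine side o (ov h a0 c) (VC j (mV j 0 1) (mV j a c)) ?_ (by simpa only [e2] using e1)
  rw [← map_mul, show (⟨a, 0, c⟩ : T3) * ⟨0, 0, 1⟩ = ⟨a, 0, c + 1⟩ by simp [T3.mul_def]]
  exact (cjV h a0 _ _).isConj

theorem cls (f : ¬ FV j) (f' : ¬ FV (jt j)) (all : ∀ l m, l ≠ 0 → m ≠ 0 → ∃ n, Ty j n l m)
    (a0 : a ≠ 0) {y : G} (hy : y ∈ Cen1 (j ⟨0, 0, 1⟩)) (e : IsConj (j ⟨a, 0, c⟩) y) :
    Cj (Cen1 (j ⟨0, 0, 1⟩)) (j ⟨a, 0, c⟩) y := by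
  have SC := SC j (mZ j 1)
  obtain ⟨g, hg, e1⟩ := conj_in2 (h.syl.of_le SC le_top) hy (by
    obtain ⟨g, rfl⟩ := isConj_iff.1 e; exact ii (iconj (ov h a0 c) g))
  have e2 := e.trans (isConj_mk g y)
  obtain ⟨b, d, e3⟩ := exV (scV h f' (mV j a c) e1 e2)
  have b0 : b ≠ 0 := fun b0 => f ⟨a, c, d, a0, by rw [e3, b0] at e2; exact e2.symm⟩
  obtain ⟨n, t⟩ := all (b * a⁻¹) (b * a⁻¹)⁻¹ (by simp [a0, b0]) (by simp [a0, b0])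
  obtain ⟨d', e4⟩ := t.v a c
  rw [inv_mul_cancel_right₀ a0] at e4
  exact (MT.Cj.trans ⟨n, c1'.2 (by rw [t.z, mul_inv_cancel₀ t.2.1, one_mul]), e4⟩
    ((cjV h b0 d' d).mono SC)).trans (MT.Cj.symm ⟨g, hg, e3⟩)

theorem notV (f : ¬ FV j) (f' : ¬ FV (jt j)) (a0 : a ≠ 0) {b d : F4} (b0 : b ≠ 0) {t w : G}
    (e : IsConj t (j ⟨a, 0, c⟩)) (hw : w ∈ Cen1 t) (e' : IsConj (jt j ⟨b, 0, d⟩) w) : False := by
  obtain ⟨g, e⟩ := isConj_iff.1 e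
  have e1 := e'.trans (isConj_mk g w)
  obtain ⟨k, -, e2⟩ := conj_in2 (sylV h f a0 c) (x := g * w * g⁻¹)
    (by rw [← e, ← conj_c1]; exact conj_mem_conjS hw) (by
      obtain ⟨g, e⟩ := isConj_iff.1 e1; exact e ▸ ii (iconj (ov (sjt h) b0 d) g))
  have e3 := e1.trans (isConj_mk k _)
  obtain ⟨x, y, e4⟩ := exV (scV (sjt h) ((jt_jt j).symm ▸ f) (mV _ b d)
    ((jt_range j).symm ▸ mapS j _ e2) e3)
  rw [e4] at e2 e3
  obtain rfl : x = 0 := mem_V0.1 (h.mem_map.1 e2)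
  exact f' ⟨b, d, y, b0, e3.symm⟩

theorem both_bad (f : ¬ FV j) (f' : ¬ FV (jt j)) (a0 : a ≠ 0) {b d : F4} (b0 : b ≠ 0)
    (hK : PCompIn 2 (Cen1 (j ⟨a, 0, c⟩)) K) {L : Subgroup G}
    (hL : PCompIn 2 (Cen1 (jt j ⟨b, 0, d⟩)) L) : False := by
  have h' := sjt h
  obtain ⟨n1, m, m1, t1⟩ := exists_h h f a0 hK
  obtain ⟨n2, l, l1, t2⟩ := exists_h h' f' b0 hL
  have t3 := jt_jt j ▸ t2.tau
  have all : ∀ l m, l ≠ 0 → m ≠ 0 → ∃ n, Ty j n l m := fun x y x0 y0 => by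
    have k1 : ∃ n, Ty j n x 1 := by
      rcases (by decide +kernel : ∀ l x : F4, l ≠ 0 → l ≠ 1 → x ≠ 0 → x = 1 ∨ x = l ∨ x = l * l)
        l x t3.2.1 l1 x0 with rfl | rfl | rfl
      exacts [⟨_, ty_S j 1⟩, ⟨_, t3⟩, ⟨_, mul_one (1 : F4) ▸ t3.mul t3⟩]
    have k2 : ∃ n, Ty j n 1 y := by
      rcases (by decide +kernel : ∀ l x : F4, l ≠ 0 → l ≠ 1 → x ≠ 0 → x = 1 ∨ x = l ∨ x = l * l)
        m y t1.2.2.1 m1 y0 with rfl | rfl | rfl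
      exacts [⟨_, ty_S j 1⟩, ⟨_, t1⟩, ⟨_, mul_one (1 : F4) ▸ t1.mul t1⟩]
    obtain ⟨_, k1⟩ := k1
    obtain ⟨_, k2⟩ := k2
    exact ⟨_, by simpa using k1.mul k2⟩
  have e1 := cnt_side h f a0 hK
  have e2 := cnt_side h' f' b0 hL
  have zt : jt j ⟨0, 0, 1⟩ = j ⟨0, 0, 1⟩ := jt_Z j (mem_Z0.2 ⟨rfl, rfl⟩)
  have c1 := fun y => cls h f f' all a0 (c := c) (y := y)
  have c2 := fun y => cls h' f' ((jt_jt j).symm ▸ f)
    (fun l m l0 m0 => let ⟨n, t⟩ := all m l m0 l0; ⟨n, t.tau⟩) b0 (c := d) (y := y)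
  rw [zt] at e2 c2
  have ox := ov h a0 c
  have ow := ov h' b0 d
  have o := oz h one_ne_zero
  have n1 : ∀ {t w : G} {a c}, a ≠ 0 → IsConj t (j ⟨a, 0, c⟩) → w ∈ Cen1 t → _ → False :=
    fun a0 => notV h f f' a0 b0 (d := d)
  have n2 : ∀ {t w : G} {b d}, b ≠ 0 → IsConj t (jt j ⟨b, 0, d⟩) → w ∈ Cen1 t →
      IsConj (j ⟨a, 0, c⟩) w → False := fun b0 e1 e2 e3 =>
    notV h' f' ((jt_jt j).symm ▸ f) b0 a0 (d := c) e1 e2 ((jt_jt j).symm ▸ e3)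
  let P := {p : G × G // Cj (Cen1 (j ⟨0, 0, 1⟩)) (j ⟨a, 0, c⟩) p.1 ∧
    Cj (Cen1 (j ⟨0, 0, 1⟩)) (jt j ⟨b, 0, d⟩) p.2 ∧ j ⟨0, 0, 1⟩ ∈ zpowers (p.1 * p.2)}
  have e3 : Nat.card {y // Cj ⊤ (j ⟨a, 0, c⟩) y} * Nat.card {y // Cj ⊤ (jt j ⟨b, 0, d⟩) y} ≤
      Nat.card {y // Cj ⊤ (j ⟨0, 0, 1⟩) y} * Nat.card P := by
    choose γ _ hγ using fun t : {y // Cj ⊤ (j ⟨0, 0, 1⟩) y} => t.2
    have k : ∀ p : {y // Cj ⊤ (j ⟨a, 0, c⟩) y} × {y // Cj ⊤ (jt j ⟨b, 0, d⟩) y},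
        ∃ t : {y // Cj ⊤ (j ⟨0, 0, 1⟩) y}, t.1 ∈ zpowers (p.1.1 * p.2.1) ∧
          t.1 ∈ Cen1 p.1.1 ∧ t.1 ∈ Cen1 p.2.1 := by
      rintro ⟨⟨_, g, -, rfl⟩, ⟨_, g', -, rfl⟩⟩
      have o1 := iconj ox g
      have o2 := iconj ow g'
      obtain ⟨t, ot, ht⟩ := H9.exists_inv_mem_zpowers (g := g * j ⟨a, 0, c⟩ * g⁻¹ *
        (g' * jt j ⟨b, 0, d⟩ * g'⁻¹)) (by
          by_contra e
          obtain ⟨k, -, e⟩ := conj_of_odd o2 o1 (Nat.odd_iff.2 (by omega))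
          exact n1 a0 (isConj_mk g _).symm (GW.c1.2 rfl)
            ((isConj_mk g' _).trans (e ▸ isConj_mk k _)))
      obtain ⟨u1, u2⟩ := inv_pair (ii o1) (ii o2) ht (ii ot)
      obtain ⟨s, e⟩ := h.conj_in (ii ot)
      refine ⟨⟨t, cj_top.2 ?_⟩, ht, u1, u2⟩
      obtain ⟨s2, s1⟩ := h.sq_of ot e
      rcases (by decide +kernel : ∀ s : T3, s * s = 1 → s ≠ 1 → (s.a ≠ 0 ∧ s = ⟨s.a, 0, s.c⟩) ∨
        (s.b ≠ 0 ∧ s = tau ⟨s.b, 0, s.c⟩) ∨ (s.c ≠ 0 ∧ s = ⟨0, 0, s.c⟩)) s s2 s1 with e' | e' | e'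
      · exact (n1 e'.1 (e'.2 ▸ e) (c1s.1 u2) (isConj_mk g' _)).elim
      · exact (n2 e'.1 (e'.2 ▸ e : IsConj t (j (tau _))) (c1s.1 u1) (isConj_mk g _)).elim
      · obtain ⟨n, t⟩ := all s.c 1 e'.1 one_ne_zero
        refine (isConj_iff.2 ⟨n, ?_⟩).trans e.symm
        rw [t.z, mul_one, mul_one, ← e'.2]
    choose τ h1 h2 h3 using k
    have cc : ∀ (t : {y // Cj ⊤ (j ⟨0, 0, 1⟩) y}) x, t.1 ∈ Cen1 x →
        (γ t)⁻¹ * x * (γ t)⁻¹⁻¹ ∈ Cen1 (j ⟨0, 0, 1⟩) := fun t x e => by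
      rw [c1s, ← conj_c1, mem_conjS, inv_inv, hγ]; exact e
    rw [← Nat.card_prod, ← Nat.card_prod]
    refine Nat.card_le_card_of_injective (fun p => ⟨τ p, ⟨(γ (τ p))⁻¹ * p.1 * (γ (τ p))⁻¹⁻¹,
      (γ (τ p))⁻¹ * p.2 * (γ (τ p))⁻¹⁻¹⟩, c1 _ (cc _ _ (h2 p)) (p.1.2.isConj.trans (isConj_mk _ _)),
      c2 _ (cc _ _ (h3 p)) (p.2.2.isConj.trans (isConj_mk _ _)), ?_⟩) fun p q e => ?_
    · obtain ⟨i, e⟩ := h1 p
      refine ⟨i, ?_⟩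
      simp only at e ⊢
      rw [conj_mul, conj_zpow, e, ← hγ]; group
    · have e0 : τ p = τ q := congrArg Prod.fst e
      have e' := congrArg (fun x => x.2.1.1) e
      have e'' := congrArg (fun x => x.2.1.2) e
      simp only [e0] at e' e''
      exact Prod.ext (Subtype.ext (by simpa using e')) (Subtype.ext (by simpa using e''))
  have e4 : 3 * Nat.card P ≤ Nat.card {y // Cj (Cen1 (j ⟨0, 0, 1⟩)) (j ⟨a, 0, c⟩) y} *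
      Nat.card {y // Cj (Cen1 (j ⟨0, 0, 1⟩)) (jt j ⟨b, 0, d⟩) y} := by
    obtain ⟨X, _, _, φ, hf, hk⟩ := exists_hom_ker_eq (nUo (j ⟨0, 0, 1⟩))
    have SC := SC j (mZ j 1)
    have q := h.quot SC hf hk (odd_Oo _)
    have ty : ∀ g : Cen1 (j ⟨0, 0, 1⟩), ∃ l m, Ty (jq SC φ) (φ g) l m := fun g => by
      refine exists_ty q ?_
      rw [MonoidHom.range_eq_map, jq_map, ← MonoidHom.range_eq_map, ← sup_bot_eq (im _ _),
        ← im_ker hk, ← im_sup SC (Uo_le _)]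
      exact im_le_normalizer (czN h (mZ j 1) (ine o)) (mem_im_of_mem g.2 g.2)
    have ac : ∀ (g : Cen1 (j ⟨0, 0, 1⟩)) s (y : Cen1 (j ⟨0, 0, 1⟩)), g * j s * (g : G)⁻¹ = y →
        φ g * jq SC φ s * (φ g)⁻¹ = φ y := fun g s y e => by
      rw [jq_apply, ← map_inv, ← map_mul, ← map_mul]
      exact congrArg φ (Subtype.ext e)
    obtain ⟨n, t⟩ := all om⁻¹ om (by decide +kernel) (by decide)
    have nC : n ∈ Cen1 (j ⟨0, 0, 1⟩) := c1'.2 (by rw [t.z]; exact congrArg j (by decide +kernel))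
    obtain ⟨l, m, t'⟩ := ty ⟨n, nC⟩
    obtain rfl : m = om := by
      obtain ⟨s, e, -, e', -⟩ := t.2.2.2 ⟨0, 1, 0⟩
      exact (mul_one m).symm.trans ((t'.get q (ac ⟨n, nC⟩ _ ⟨_, SC ⟨s, rfl⟩⟩ e)).2.1.symm.trans
        (e'.trans (mul_one _)))
    have tp : ∀ i : ℕ, ∃ l, Ty (jq SC φ) (φ ⟨n, nC⟩ ^ i) l (om ^ i) := fun i => by
      induction i with
      | zero => exact ⟨1, by simpa using ty_S (jq SC φ) 1⟩
      | succ i ih => exact let ⟨_, e⟩ := ih; ⟨_, pow_succ om i ▸ pow_succ (φ _) i ▸ e.mul t'⟩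
    have k : ∀ p : P, ∃ (u1 : p.1.1 ∈ _) (u2 : p.1.2 ∈ _) (s s' : T3), φ ⟨_, u1⟩ = jq SC φ s ∧
        φ ⟨_, u2⟩ = jq SC φ s' ∧ s.a * s'.b = 1 := by
      rintro ⟨⟨p1, p2⟩, ⟨g, hg, eg⟩, ⟨g', hg', eg'⟩, i, hz⟩
      dsimp only at eg eg' hz ⊢
      have u1 : p1 ∈ _ := eg ▸ (cj_mk hg _).mem (SC ⟨⟨a, 0, c⟩, rfl⟩)
      have u2 : p2 ∈ _ := eg' ▸ (cj_mk hg' _).mem (SC ⟨tau ⟨b, 0, d⟩, rfl⟩)
      obtain ⟨l, m, t1⟩ := ty ⟨g, hg⟩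
      obtain ⟨l', m', t2⟩ := ty ⟨g', hg'⟩
      obtain ⟨s, a1, a4, a2, -⟩ := t1.2.2.2 ⟨a, 0, c⟩
      obtain ⟨s', b1, b2, -⟩ := t2.2.2.2 (tau ⟨b, 0, d⟩)
      have a3 := (ac ⟨g, hg⟩ _ ⟨_, u1⟩ eg).symm.trans a1
      have b3 := (ac ⟨g', hg'⟩ _ ⟨_, u2⟩ eg').symm.trans b1
      refine ⟨u1, u2, s, s', a3, b3, ?_⟩
      have e : (s * s') ^ i = ⟨0, 0, 1⟩ := q.inj (by
        rw [map_zpow, map_mul, ← a3, ← b3, ← map_mul, ← map_zpow]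
        exact congrArg φ (Subtype.ext hz))
      obtain ⟨k, e'⟩ := (mem_powers_iff_mem_zpowers.2 ⟨i, e⟩ : _ ∈ Submonoid.powers (s * s'))
      dsimp only at e'
      rw [pow_eq_pow_mod _ ((by decide +kernel : ∀ s : T3, s ^ 4 = 1) _)] at e'
      exact (by decide +kernel : ∀ s s' : T3, s.b = 0 → s'.a = 0 → s.a ≠ 0 → ∀ k : Fin 4,
        (s * s') ^ (k : ℕ) = ⟨0, 0, 1⟩ → s.a * s'.b = 1) s s'
        (by simpa using a2) (by simpa [tau_def] using b2) (a4 ▸ mul_ne_zero t1.2.1 a0)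
        ⟨_, Nat.mod_lt _ (by norm_num)⟩ e'
    choose u1 u2 s s' k1 k2 k3 using k
    rw [← Nat.card_prod, show 3 = Nat.card (Fin 3) by simp, ← Nat.card_prod]
    refine Nat.card_le_card_of_injective (fun x => (⟨_, x.2.2.1⟩, ⟨_, x.2.2.2.1.trans
      (cj_mk (pow_mem nC x.1) _)⟩)) ?_
    rintro ⟨i, p⟩ ⟨i', p'⟩ e
    have e1 : p.1.1 = p'.1.1 := congrArg (fun x => x.1.1) e
    have e2 : n ^ (i : ℕ) * p.1.2 * (n ^ (i : ℕ))⁻¹ = n ^ (i' : ℕ) * p'.1.2 * (n ^ (i' : ℕ))⁻¹ :=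
      congrArg (fun x => x.2.1) e
    have e3 : s p = s p' := q.inj (by rw [← k1, ← k1]; exact congrArg φ (Subtype.ext e1))
    obtain ⟨_, r1⟩ := tp i
    obtain ⟨_, r2⟩ := tp i'
    obtain ⟨t1, a1, -, a2, -⟩ := r1.2.2.2 (s' p)
    obtain ⟨t2, b1, -, b2, -⟩ := r2.2.2.2 (s' p')
    obtain rfl : t1 = t2 := q.inj (by
      rw [← a1, ← b1, ← k2, ← k2, ← map_pow, ← map_pow, ← map_inv, ← map_inv, ← map_mul, ← map_mul,
        ← map_mul, ← map_mul]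
      exact congrArg φ (Subtype.ext e2))
    obtain rfl : i = i' := (by decide +kernel : ∀ (i i' : Fin 3) (x y y' : F4), x * y = 1 →
      x * y' = 1 → om ^ (i : ℕ) * y = om ^ (i' : ℕ) * y' → i = i') i i' _ _ _ (k3 p) (e3 ▸ k3 p')
      (a2.symm.trans b2)
    exact congrArg _ (Subtype.ext (Prod.ext e1 (by simpa using e2)))
  have p1 : 0 < Nat.card {y // Cj ⊤ (j ⟨0, 0, 1⟩) y} :=
    Nat.card_pos_iff.2 ⟨⟨_, MT.Cj.refl _ _⟩, inferInstance⟩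
  generalize Nat.card {y // Cj ⊤ (j ⟨0, 0, 1⟩) y} = z at *
  generalize Nat.card {y // Cj ⊤ (j ⟨a, 0, c⟩) y} = x at *
  generalize Nat.card {y // Cj ⊤ (jt j ⟨b, 0, d⟩) y} = w at *
  generalize Nat.card {y // Cj (Cen1 (j ⟨0, 0, 1⟩)) (j ⟨a, 0, c⟩) y} = X at *
  generalize Nat.card {y // Cj (Cen1 (j ⟨0, 0, 1⟩)) (jt j ⟨b, 0, d⟩) y} = Y at *
  have e5 : 3 * (x * w) ≤ z * (X * Y) := by nlinarith [Nat.mul_le_mul_left z e4]
  have e6 := Nat.mul_lt_mul'' e1 e2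
  nlinarith [Nat.mul_le_mul e5 e5]

end SJ

end P3
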