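import Cfsg.Agent.P3.B0
import Cfsg.Agent.P3.Aff
import Cfsg.Agent.CIT.B4

/-! Groups of type `L₃(4)` with one class of involutions: local structure. -/

set_option autoImplicit false
set_option linter.unusedVariables false
set_option linter.unusedSectionVars false

namespace P3

open Cfsg Subgroup FT H4 H5 GW A8
open H2 (F4)
open MT (Cj o2 isConj_mk cj_top cj_mk conj_in2)

universe u

variable {G : Type u} [Group G] [Finite G] {j : T3 →* G} {g n k : G} {l m : F4}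

structure PC (j : T3 →* G) : Prop where
  sj : SJ j
  hO : oddCore G = ⊥
  sV : StdV j
  sW : StdV (jt j)

theorem exists_pc (h : SJ j) (hO : oddCore G = ⊥) (f : FV j) (f' : FV (jt j)) :
    ∃ j' : T3 →* G, PC j' := by
  obtain ⟨p, r, s⟩ := exists_std h f
  have h1 := sj_sg h p r
  have e : ∀ (j : T3 →* G) p r a c, jt (j.comp (sg p r)) ⟨a, 0, c⟩ = jt j ⟨a, 0, c⟩ :=
    fun j p r a c => sg_W j p r rfl
  obtain ⟨a, c, d, a0, f'⟩ := f'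
  obtain ⟨p', r', s'⟩ := exists_std (sjt h1) ⟨a, c, d, a0, by rwa [e, e]⟩
  refine ⟨jt _, sjt (sj_sg (sjt h1) p' r'), hO, ?_, by rwa [jt_jt]⟩
  obtain ⟨g, hg, s⟩ := s
  refine ⟨g, ?_, fun a => ?_⟩
  · rwa [VV_eq (j' := j.comp (sg p r)) (fun a c => ⟨c, by rw [e, jt_jt]⟩)
      fun a c => ⟨c, by rw [e, jt_jt]⟩]
  · simpa only [e, jt_jt] using s a

theorem StdV.fv (s : StdV j) : FV j :=
  let ⟨g, _, e⟩ := s; let ⟨d, e⟩ := e 1; ⟨1, 0, d, one_ne_zero, e ▸ isConj_mk g _⟩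

theorem invS (h : SJ j) {t : G} (ht : t ∈ j.range) (t2 : t * t = 1) : t ∈ VV j ∨ t ∈ VV (jt j) := by
  obtain ⟨x, rfl⟩ := ht
  rcases inv_cases x (h.inj (by rw [map_mul, t2, map_one])) with e | e
  · exact Or.inr ⟨tau x, mem_V0.2 e, jt_tau j x⟩
  · exact Or.inl ⟨x, mem_V0.2 e, rfl⟩

theorem VW_inf (h : SJ j) : VV j ⊓ VV (jt j) = ZZ j := by
  refine le_antisymm ?_ (le_inf (ZV j) (ZZ_jt j ▸ ZV (jt j)))
  rintro _ ⟨hx, y, hy, rfl⟩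
  exact ⟨tau y, mem_Z0.2 ⟨mem_V0.1 hy, mem_V0.1 (h.mem_map.1 hx)⟩, rfl⟩

theorem sdec (j : T3 →* G) (x : T3) : j x = j ⟨x.a, 0, x.c + x.a * x.b⟩ * jt j ⟨x.b, 0, 0⟩ :=
  (congrArg j (by revert x; decide +kernel)).trans (map_mul j _ (tau _))

theorem VW_sup (j : T3 →* G) : VV j ⊔ VV (jt j) = j.range := by
  refine le_antisymm (sup_le (mapS j _) (jt_range j ▸ mapS _ _)) ?_
  rintro _ ⟨x, rfl⟩
  exact sdec j x ▸ mul_mem (mem_sup_left (mV j _ _)) (mem_sup_right (mV _ _ _))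

theorem Ac.inv {x y z t x' y' z' t' : F4} (h : Ac j g x y z t) (e1 : x * x' + y * z' = 1)
    (e2 : x * y' + y * t' = 0) (e3 : z * x' + t * z' = 0) (e4 : z * y' + t * t' = 1) :
    Ac j g⁻¹ x' y' z' t' := fun a c => by
  have := (h (x' * a + y' * c) (z' * a + t' * c)).trans (congrArg j (T3.ext (y := ⟨a, 0, c⟩)
    (by linear_combination a * e1 + c * e2) rfl (by linear_combination a * e3 + c * e4)))
  rw [← this]; group

theorem Ac.cen (h : Ac j g 1 0 0 1) : g ∈ Cen (VV j) := GW.cen.2 fun v hv => by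
  obtain ⟨a, c, rfl⟩ := exV hv
  rw [← mul_inv_eq_iff_eq_mul, h]; simp

theorem Ac.of_eq {x y z t x' y' z' t' : F4} (h : Ac j g x y z t)
    (e : x = x' ∧ y = y' ∧ z = z' ∧ t = t') : Ac j g x' y' z' t' := by
  obtain ⟨rfl, rfl, rfl, rfl⟩ := e; exact h

theorem Ac.adj {x t a c : F4} (h : Ac j g x 0 0 t) (x1 : x ≠ 1) (t1 : t ≠ 1)
    (e : n * g⁻¹ = j ⟨a, 0, c⟩) : j ⟨a * (1 + x)⁻¹, 0, c * (1 + t)⁻¹⟩ * n *
      (j ⟨a * (1 + x)⁻¹, 0, c * (1 + t)⁻¹⟩)⁻¹ = g := by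
  rw [eq_mul_of_mul_inv_eq e, ← map_inv, mul_assoc, mul_assoc, ← mul_inv_eq_one, mul_assoc,
    mul_assoc, T3.inv_def, h, ← map_mul, ← map_mul, ← map_one j]
  exact congrArg j (by clear h e; revert x t a c; decide +kernel)

/-- diagonal elements -/
def Dg (j : T3 →* G) (n : G) (l m : F4) : Prop :=
  Ty j n l m ∧ Ac j n l 0 0 (l * m) ∧ Ac (jt j) n m 0 0 (m * l)

theorem Dg.tau (h : Dg j n l m) : Dg (jt j) n m l := ⟨h.1.tau, h.2.2, (jt_jt j).symm ▸ h.2.1⟩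

theorem Dg.mul {n' : G} {l' m' : F4} (h : Dg j n l m) (h' : Dg j n' l' m') :
    Dg j (n * n') (l * l') (m * m') :=
  ⟨h.1.mul h'.1, (h.2.1.mul h'.2.1).of_eq ⟨by ring, by ring, by ring, by ring⟩,
    (h.2.2.mul h'.2.2).of_eq ⟨by ring, by ring, by ring, by ring⟩⟩

theorem Dg.inv (h : Dg j n l m) (hj : SJ j) : Dg j n⁻¹ l⁻¹ m⁻¹ :=
  have a := h.1.2.1
  have b := h.1.2.2.1
  ⟨h.1.inv hj, h.2.1.inv (by simp [a]) (by simp) (by simp) (by field_simp; simp),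
    h.2.2.inv (by simp [b]) (by simp) (by simp) (by field_simp; simp)⟩

theorem Dg.of_eq {l' m' : F4} (h : Dg j n l m) (e : l = l' ∧ m = m') : Dg j n l' m' := by
  obtain ⟨rfl, rfl⟩ := e; exact h

theorem dg_Z (j : T3 →* G) (c : F4) : Dg j (j ⟨0, 0, c⟩) 1 1 :=
  ⟨ty_S j _, (ac_S j _).of_eq (by simp), by
    rw [← jt_Z j (mem_Z0.2 ⟨rfl, rfl⟩)]; exact (ac_S _ _).of_eq (by simp)⟩

theorem Dg.cen (h : Dg j n 1 1) : n ∈ Cen j.range := by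
  rw [← VW_sup, W.cen_sup]
  exact ⟨(h.2.1.of_eq (by simp)).cen, (h.2.2.of_eq (by simp)).cen⟩

theorem fpf (h : SJ j) (t : Ty j k l m) (l1 : l ≠ 1) (m1 : m ≠ 1) {x : G} (hx : x ∈ j.range)
    (c : k * x * k⁻¹ = x) : x ∈ ZZ j ∧ (l * m ≠ 1 → x = 1) := by
  obtain ⟨x, rfl⟩ := hx
  obtain ⟨a1, a2, a3⟩ := t.get h c
  have k := (by decide +kernel : ∀ l x : F4, l ≠ 1 → x = l * x → x = 0)
  have b1 := k _ _ l1 a1
  have b2 := k _ _ m1 a2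
  refine ⟨⟨x, mem_Z0.2 ⟨b1, b2⟩, rfl⟩, fun e => ?_⟩
  rw [← map_one j]
  exact congrArg j (T3.ext b1 b2 (k _ _ e (a3 b1 b2)))

namespace PC

variable (h : PC j)
include h

theorem symm : PC (jt j) := ⟨sjt h.sj, h.hO, h.sW, (jt_jt j).symm ▸ h.sV⟩

theorem cjz {t : G} (ht : t ∈ j.range) (t2 : t * t = 1) : ∃ z ∈ ZZ j, IsConj z t := by
  rcases invS h.sj ht t2 with e | e
  · exact let ⟨z, hz, e⟩ := h.sV.fv.all h.sj e; ⟨z, hz, e.isConj⟩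
  · exact let ⟨z, hz, e⟩ := h.sW.fv.all (sjt h.sj) e; ⟨z, ZZ_jt j ▸ hz, e.isConj⟩

theorem core {t : G} (ot : orderOf t = 2) : Uo t = ⊥ :=
  W.core_bot h.sj.syl h.hO (fun t ht ot => ⟨by
    obtain ⟨z, hz, e⟩ := h.cjz ht (ii ot)
    exact solv_cj e (solvz h.sj hz fun z1 => ine ot (by simpa [z1] using e.symm)),
    (invS h.sj ht (ii ot)).elim (fun e => ⟨_, VC _ e, elemV _, by rw [card_V h.sj]; norm_num⟩)
      fun e => ⟨_, VC _ e, elemV _, by rw [card_V (sjt h.sj)]; norm_num⟩⟩) ot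

theorem czS {z : G} (hz : z ∈ ZZ j) (z1 : z ≠ 1) : Cen1 z ≤ Nor j.range := by
  simpa [h.core (o2 (sqV (ZV j hz)) z1)] using cz_le h.sj hz z1

theorem NZS : Nor (ZZ j) ≤ Nor j.range :=
  have o := oz h.sj one_ne_zero
  (NZ_le h.sj).trans (sup_le ((OZ_le h.sj (mZ j 1) (ine o)).trans (h.core o ▸ bot_le)) le_rfl)

theorem cenS : Cen j.range ≤ j.range := by
  have o := oz h.sj one_ne_zero
  obtain ⟨P, hP⟩ := exists_isSylowOf 2 (Cen j.range)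
  have l := h.sj.syl.le_of_le_normalizer hP.isPGroup le_top (cnor (le_cen_symm hP.le))
  have := le_Oo ((W.Oo_le _).trans fun x hx => c1.2 (cen.1 hx _ (mapS j _ (mZ j 1))))
    ((h.czS (mZ j 1) (ine o)).trans ((ncen le_rfl).trans (nOo (Cen j.range)))) (odd_Oo _)
  exact (Burnside_normal_complement hP (inf_le_left.trans (centralizer_le l))).sup.ge.trans
    (sup_le (this.trans ((h.core o).le.trans bot_le)) l)

theorem one (t : Ty j n 1 1) : n ∈ j.range :=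
  let ⟨s, e⟩ := t.one h.sj
  (mul_mem_cancel_left (inv_mem (MonoidHom.mem_range.2 ⟨s, rfl⟩))).1 (h.cenS e)

theorem cenV : Cen (VV j) ≤ VV j := fun g hg => by
  obtain ⟨l, m, t⟩ := exists_ty h.sj (h.czS (mZ j 1) (ine (oz h.sj one_ne_zero))
    (c1.2 (cen.1 hg _ (mV j 0 1))))
  have e1 := (t.get h.sj (c1'.1 (c1.2 (cen.1 hg _ (mV j 1 0))))).1
  have e2 := (t.get h.sj (c1'.1 (c1.2 (cen.1 hg _ (mV j 0 1))))).2.2 rfl rfl
  obtain rfl : l = 1 := by simpa using e1.symm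
  obtain rfl : m = 1 := by simpa using e2.symm
  exact S_cenV h.sj ⟨h.one t, hg⟩

theorem exV1 (e : Ac j g 1 0 0 1) : ∃ a c, g = j ⟨a, 0, c⟩ := exV (h.cenV e.cen)

theorem vx : CIT.Vx (VV j) := by
  refine ⟨fun x => sqV, fun x a _ _ => h.cenV a, fun x hx => cen.2 fun v hv => ?_,
    W.ne_bot_of (mV j 0 1) (ine (oz h.sj one_ne_zero))⟩
  obtain ⟨z, hz, g, hg, rfl⟩ := h.sV.fv.all h.sj hv
  have m := (h.sj.syl.of_le (SV j) le_top).le_of_le_normalizer (isPGroup_pCoreIn _ _)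
    (pCoreIn_le _ _) ((SV j).trans (le_normalizer_pCoreIn _ _))
    (cmem' (le_normalizer_pCoreIn _ _ hg) hx)
  calc _ = g * (g⁻¹ * x * g * z) * g⁻¹ := by group
    _ = _ := by rw [c1.1 (SC j hz m)]; group

theorem emb_cit (c : CIT.IsCIT G) : Emb G := by
  have VC : ∀ j : T3 →* G, VV j ≤ Cen (VV j) := fun j x hx => cen.2 fun y hy => c1.1 (VC j hy hx)
  obtain ⟨e⟩ := CIT.Q4.psl (V := VV j) (W := VV (jt j)) ⟨⟨⟨c, h.vx, h.symm.vx,
    (jt_range j ▸ mapS _ _ : _ ≤ j.range).trans (SV j), (mapS _ _).trans (jt_range j ▸ SV (jt j)),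
    fun e => absurd (h.sj.mem_map.1 (h.cenV (e (mV _ 1 0)))) (by rw [mem_V0]; decide)⟩,
    le_antisymm h.cenV (VC j), le_antisymm h.symm.cenV (VC _)⟩,
    by rw [VW_inf h.sj, card_Z h.sj], VW_sup j ▸ h.sj.syl⟩
  exact ⟨Matrix.ProjectiveSpecialLinearGroup.toPGL.comp e.toMonoidHom, fun _ _ e' =>
    e.injective (Matrix.ProjectiveSpecialLinearGroup.toPGL_injective e')⟩

theorem exists_ty3 (c : ¬ CIT.IsCIT G) : ∃ n, Ty j n (om ^ 2) om := by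
  by_contra! hn
  refine c fun t ot => ?_
  obtain ⟨s, e⟩ := h.sj.conj_in (ii ot)
  obtain ⟨z, hz, e'⟩ := h.cjz ⟨s, rfl⟩ (by rw [← map_mul, (h.sj.sq_of ot e).1, map_one])
  obtain ⟨g, rfl⟩ := isConj_iff.1 (e'.trans e.symm)
  have z1 : z ≠ 1 := fun z1 => ine ot (by simp [z1])
  rw [← conj_c1]
  refine (h.sj.syl.isPGroup.to_le fun n hn' => ?_).map _
  obtain ⟨l, m, t⟩ := exists_ty h.sj (h.czS hz z1 hn')
  obtain ⟨c, rfl⟩ := exZ hz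
  rcases (by decide +kernel : ∀ l m c : F4, (⟨0, 0, c⟩ : T3) ≠ 1 → c = l * m * c → (l = 1 ∧ m = 1) ∨
    (l = om ^ 2 ∧ m = om) ∨ (l * l = om ^ 2 ∧ m * m = om)) l m c (fun e => z1 (e ▸ map_one j))
    ((t.get h.sj (c1'.1 hn')).2.2 rfl rfl) with ⟨rfl, rfl⟩ | ⟨rfl, rfl⟩ | ⟨e1, e2⟩
  exacts [h.one t, (hn _ t).elim, (hn _ (e1 ▸ e2 ▸ t.mul t)).elim]

theorem ac_ty (t : Ty j n l m) : ∃ p, Ac j n l 0 p (l * m) := by
  obtain ⟨x, y, z, s, e⟩ := h.sV.lin h.sj t.norV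
  obtain ⟨a1, -, a2⟩ := t.get h.sj (e 0 1)
  exact ⟨z, e.of_eq ⟨by simpa using (t.get h.sj (e 1 0)).1, by simpa using a1, rfl,
    by simpa using a2 rfl rfl⟩⟩

theorem exists_dg (t : Ty j n l m) : ∃ n', Dg j n' l m := by
  obtain ⟨p, e⟩ := h.ac_ty t
  have t1 := (ty_S j ⟨0, p * l⁻¹, 0⟩).mul t
  have e1 := (ac_S j ⟨0, p * l⁻¹, 0⟩).mul e
  obtain ⟨q, e'⟩ := h.symm.ac_ty t1.tau
  have t2 := (ty_S j ⟨q * m⁻¹, 0, 0⟩).mul t1
  have e2 := (ac_S (jt j) ⟨0, q * m⁻¹, 0⟩).mul e'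
  rw [show jt j ⟨0, q * m⁻¹, 0⟩ = j ⟨q * m⁻¹, 0, 0⟩ from congrArg j (by simp [tau_def])] at e2
  refine ⟨_, by simpa using t2, ((ac_S j ⟨q * m⁻¹, 0, 0⟩).mul e1).of_eq ?_, e2.of_eq ?_⟩
  · simp [t.2.1, aa]
  · simp [t.2.2.1, aa]

theorem exists_up (β : F4) : ∃ x, Ac j x 1 β 0 1 := by
  obtain ⟨g, hg, e⟩ := h.sV
  obtain ⟨x, y, z, t, a⟩ := h.sV.lin h.sj hg
  obtain ⟨x', y', z', t', a'⟩ := h.sV.lin h.sj (inv_mem hg)
  obtain ⟨d, e⟩ := e 1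
  have e1 := T3.mk.inj (h.sj.inj ((a 0 d).symm.trans e))
  have e2 := (a.mul a').uniq h.sj (by simpa using ac_S j 1)
  obtain ⟨b, e3⟩ := (by
    intro x y z t x' y' z' t' d β e1 e2 e3 e4 e5 e6
    have d0 : d ≠ 0 := fun e => by simp [e] at e1
    obtain rfl : t = 0 := by simpa [d0] using e2
    have y0 : y ≠ 0 := fun e => by simp [e] at e1
    have z0 : z ≠ 0 := fun e => by simp [e] at e6
    obtain rfl : x' = 0 := by simpa [z0] using e5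
    have y1 : y' ≠ 0 := fun e => by simp [e] at e6
    refine ⟨β * (y * y')⁻¹, by linear_combination e3, ?_, by simp, by linear_combination e6⟩
    field_simp
    linear_combination e4 : ∀ x y z t x' y' z' t' d β : F4,
      x * 0 + y * d = 1 → z * 0 + t * d = 0 → x * x' + y * z' = 1 → x * y' + y * t' = 0 →
      z * x' + t * z' = 0 → z * y' + t * t' = 1 → ∃ b,
      (x * 1 + y * b) * x' + (x * 0 + y * 1) * z' = 1 ∧
      (x * 1 + y * b) * y' + (x * 0 + y * 1) * t' = β ∧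
      (z * 1 + t * b) * x' + (z * 0 + t * 1) * z' = 0 ∧
      (z * 1 + t * b) * y' + (z * 0 + t * 1) * t' = 1) x y z t x' y' z' t' d β e1.1 e1.2.2
      e2.1 e2.2.1 e2.2.2.1 e2.2.2.2
  exact ⟨_, ((a.mul (ac_S j ⟨0, b, 0⟩)).mul a').of_eq e3⟩

theorem exists_sw {β : F4} (b0 : β ≠ 0) : ∃ x, Ac j x 0 β β⁻¹ 0 :=
  let ⟨_, e⟩ := h.exists_up β
  ⟨_, ((e.mul (ac_S j ⟨0, β⁻¹, 0⟩)).mul e).of_eq (by simp [b0, aa])⟩

theorem exists_k : ∃ k, Dg j k (om ^ 2) (om ^ 2) := by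
  obtain ⟨x, e⟩ := h.exists_sw (β := om ^ 2) (by decide)
  obtain ⟨y, e'⟩ := h.exists_sw one_ne_zero
  have e1 := (e.mul e').of_eq (x' := om ^ 2) (y' := 0) (z' := 0) (t' := om) (by decide +kernel)
  obtain ⟨l, m, t⟩ := exists_ty h.sj (h.NZS (mnor fun v hv => by
    obtain ⟨c, rfl⟩ := exZ hv
    rw [e1]; simpa using mZ j _))
  obtain ⟨p, e2⟩ := h.ac_ty t
  obtain ⟨rfl, -, -, e3⟩ := e2.uniq h.sj e1
  obtain rfl := (by decide +kernel : ∀ m : F4, om ^ 2 * m = om → m = om ^ 2) m e3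
  exact h.exists_dg t

end PC

end P3
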