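import Cfsg.Agent.P3.C1

/-! Groups of type `PGL₃(4)`: generators and relations. -/

set_option autoImplicit false
set_option linter.unusedVariables false
set_option linter.unusedSectionVars false

namespace P3

open Cfsg Subgroup FT H4 H5 GW A8
open H2 (F4)
open MT (Cj o2 isConj_mk cj_top cj_mk conj_in2)

universe u

variable {G : Type u} [Group G] [Finite G] {j : T3 →* G} {g n k d u w : G} {l m : F4}

theorem sein_one {L B : Subgroup G} {b : G} (h0 : B ≤ L) (hb : b ∈ B) (ob : orderOf b = 2)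
    (h1 : ∀ t ∈ B, orderOf t = 2 → Cj B b t) (h2 : L ⊓ Cen1 b ≤ B) (hn : ¬ L ≤ B) :
    BS.SEin L B := by
  refine ⟨h0, hn, BS.even_of_inv hb (ine ob) (ii ob), fun g hg gn =>
    BS.odd_of_no_inv fun a ha hi => gn ?_⟩
  have o := o2 hi.2 hi.1
  obtain ⟨x, hx, rfl⟩ := h1 a ha.1 o
  obtain ⟨c, hc, e⟩ := h1 _ (mem_conjS.1 ha.2) (by rwa [H9.orderOf_conj'])
  have : x⁻¹ * g * c ∈ B := h2 ⟨L.mul_mem (L.mul_mem (L.inv_mem (h0 hx)) hg) (h0 hc), c1'.2 (by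
    calc x⁻¹ * g * c * b * (x⁻¹ * g * c)⁻¹ = x⁻¹ * g * (c * b * c⁻¹) * g⁻¹ * x := by group
      _ = _ := by rw [e]; group)⟩
  exact mem_of_eq (mul_mem (mul_mem hx this) (inv_mem hc)) (by group)

theorem braid_sq {z : G} (zz : z * z = 1) (uu : u * u = 1) (ww : w * w = 1)
    (e1 : (u * (w * z * w⁻¹)) ^ 3 = 1) (e2 : (w * (u * z * u⁻¹)) ^ 3 = 1) {c : G}
    (hc : (w * u) ^ 3 = c) (r2 : c⁻¹ * z * c * z * (c⁻¹ * z * c * z) = 1) : c * c = 1 := by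
  have ui := inv_eq_of_mul_eq_one_right uu
  have wi := inv_eq_of_mul_eq_one_right ww
  rw [wi, pow_three'] at e1
  rw [ui, pow_three'] at e2
  have aux : ∀ {u w : G}, u * u = 1 → w * w = 1 →
      u * (w * z * w) * (u * (w * z * w)) * (u * (w * z * w)) = 1 →
      w * u * w = z * (w * u * w) * z * (w * u * w) * z := fun {u w} uu ww e => by
    calc _ = w * u * (u * (w * z * w) * (u * (w * z * w)) * (u * (w * z * w))) * w := by
          rw [e, mul_one]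
      _ = w * (u * u) * w * z * (w * u * w) * z * (w * u * w) * z * (w * w) := by group
      _ = _ := by rw [uu, mul_one, ww, mul_one, one_mul]
  have p1 := aux uu ww e1
  have q1 := aux ww uu e2
  have qq : u * w * u * (u * w * u) = 1 := by
    calc _ = u * w * (u * u) * w * u := by group
      _ = 1 := by rw [uu, mul_one, mul_assoc u, ww, mul_one, uu]
  have pp : w * u * w * (w * u * w) = 1 := by
    calc _ = w * u * (w * w) * u * w := by group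
      _ = 1 := by rw [ww, mul_one, mul_assoc w, uu, mul_one, ww]
  have pq : w * u * w = c * (u * w * u) := by
    calc _ = w * u * w * (u * w * u * (u * w * u)) := by rw [qq, mul_one]
      _ = _ := by rw [← hc, pow_three']; group
  generalize w * u * w = p at *
  generalize u * w * u = q at *
  subst pq
  have cq : c * q = q * c⁻¹ := by
    rw [← inv_eq_of_mul_eq_one_right pp, mul_inv_rev, inv_eq_of_mul_eq_one_right qq]
  have e : c = z * q * (c⁻¹ * z * c * z) * q * z := by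
    calc c = c * q * q := by rw [mul_assoc, qq, mul_one]
      _ = z * (c * q) * z * (c * q) * z * (z * q * z * q * z) := by rw [← p1, ← q1]
      _ = z * (c * q) * z * c * (q * (z * z) * q) * z * q * z := by group
      _ = _ := by rw [zz, mul_one, qq, cq]; group
  generalize c⁻¹ * z * c * z = r at *
  rw [e]
  calc _ = z * q * r * (q * (z * z) * q) * r * q * z := by group
    _ = 1 := by
      rw [zz, mul_one, qq, mul_one, mul_assoc _ r r, r2, mul_one, mul_assoc z, qq, mul_one, zz]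

structure Cf (j : T3 →* G) (k d u w : G) : Prop extends PC j where
  dk : Dg j k (om ^ 2) (om ^ 2)
  dd : Dg j d (om ^ 2) om
  kd : k * d * k⁻¹ = d
  aw : Ac j w 0 1 1 0
  au : Ac (jt j) u 0 1 1 0
  wk : w * k * w⁻¹ = k⁻¹
  uk : u * k * u⁻¹ = k⁻¹

theorem PC.exists_w (h : PC j) (t : Dg j k (om ^ 2) (om ^ 2)) :
    ∃ w, Ac j w 0 1 1 0 ∧ w * k * w⁻¹ = k⁻¹ := by
  obtain ⟨x, e⟩ := h.exists_sw one_ne_zero
  rw [inv_one] at e
  obtain ⟨a, c, e1⟩ := h.exV1 ((((e.mul t.2.1).mul (e.inv (x' := 0) (y' := 1) (z' := 1) (t' := 0)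
    (by simp) (by simp) (by simp) (by simp))).mul t.2.1).of_eq (by decide +kernel))
  have := (t.inv h.sj).2.1.adj (n := x * k * x⁻¹) (by decide +kernel) (by decide +kernel)
    (by rw [inv_inv]; exact e1)
  generalize a * _ = a at this
  generalize c * _ = c at this
  exact ⟨_, ((ac_S j ⟨a, 0, c⟩).mul e).of_eq (by simp), Eq.trans (by group) this⟩

theorem PC.exists_cf (h : PC j) (c : ¬ CIT.IsCIT G) : ∃ k d u w, Cf j k d u w := by
  obtain ⟨k, t⟩ := h.exists_k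
  obtain ⟨n, t'⟩ := h.exists_ty3 c
  obtain ⟨d, t'⟩ := h.exists_dg t'
  obtain ⟨w, w1, w2⟩ := h.exists_w t
  obtain ⟨u, u1, u2⟩ := h.symm.exists_w t.tau
  have e := (((t'.mul t).mul (t'.inv h.sj)).mul (t.inv h.sj)).of_eq (l' := 1) (m' := 1)
    (by decide +kernel)
  obtain ⟨x, e1⟩ := h.cenS e.cen
  have e2 : ∀ y, x * y = y * x := fun y =>
    h.sj.comm.1 (c1.2 (cen.1 (e1 ▸ e.cen : j x ∈ Cen j.range) _ ⟨y, rfl⟩))
  obtain ⟨a1, a2⟩ := Z_iff x (e2 _) (e2 _)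
  have := t.2.1.adj (n := d * k * d⁻¹) (a := 0) (c := x.c) (by decide +kernel) (by decide +kernel)
    (e1.symm.trans (congrArg j (T3.ext a1 a2 rfl)))
  rw [zero_mul] at this
  generalize x.c * _ = c at this
  refine ⟨k, _, u, w, h, t, ((dg_Z j c).mul t').of_eq (by simp), ?_, w1, u1, w2, u2⟩
  nth_rewrite 1 [← this]
  group

namespace Cf

variable (h : Cf j k d u w)
include h

theorem symm : Cf (jt j) k d⁻¹ w u :=
  ⟨h.toPC.symm, h.dk.tau, (h.dd.inv h.sj).tau.of_eq (by decide +kernel), by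
    rw [← conj_inv, h.kd], h.au, (jt_jt j).symm ▸ h.aw, h.uk, h.wk⟩

theorem fk {x : G} (hx : x ∈ j.range) (e : k * x * k⁻¹ = x) : x = 1 :=
  (fpf h.sj h.dk.1 (by decide +kernel) (by decide +kernel) hx e).2 (by decide +kernel)

theorem fV (e : Ac j g 1 0 0 1) (c : g ∈ Cen1 k) : g = 1 :=
  h.fk (mapS j _ (h.cenV e.cen)) (c1'.1 (c1s.1 c))

theorem kkk : k * k * k = 1 :=
  h.fV (((h.dk.mul h.dk).mul h.dk).2.1.of_eq (by decide +kernel)) (c1.2 (by group))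

theorem dk' : d ∈ Cen1 k := c1s.1 (c1'.2 h.kd)

theorem ddd : d * d * d = 1 :=
  h.fV (((h.dd.mul h.dd).mul h.dd).2.1.of_eq (by decide +kernel))
    (mul_mem (mul_mem h.dk' h.dk') h.dk')

theorem ww : w * w = 1 :=
  h.fV ((h.aw.mul h.aw).of_eq (by simp)) (c1'.2 (by
    rw [show w * w * k * (w * w)⁻¹ = w * (w * k * w⁻¹) * w⁻¹ by group, h.wk, ← conj_inv, h.wk,
      inv_inv]))

theorem uu : u * u = 1 := h.symm.ww

theorem wi : w⁻¹ = w := inv_eq_of_mul_eq_one_right h.ww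
theorem ui : u⁻¹ = u := inv_eq_of_mul_eq_one_right h.uu

theorem ae : Ac j (k * d) om 0 0 om := (h.dk.mul h.dd).2.1.of_eq (by decide +kernel)

theorem ek : k * d ∈ Cen1 k := mul_mem (c1.2 rfl) h.dk'

theorem we : w * (k * d) * w⁻¹ = k * d := by
  refine mul_inv_eq_one.1 (h.fV ((((h.aw.mul h.ae).mul (h.wi.symm ▸ h.aw)).mul
    ((h.dk.mul h.dd).inv h.sj).2.1).of_eq (by decide +kernel)) (mul_mem ?_ (inv_mem h.ek)))
  have := conj_mem_conjS (g := w) (c1.2 (Commute.inv_right (c1.1 h.ek)))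
  rwa [conj_c1, ← conj_inv, h.wk, inv_inv] at this

theorem wd : w * d * w⁻¹ = k * k * d := by
  rw [mul_assoc k, ← h.we, ← conj_mul, h.wk, mul_inv_cancel_left]

theorem ud : u * d * u⁻¹ = k * d := by
  have e := h.symm.wd
  rw [← conj_inv, inv_eq_iff_eq_inv, eq_inv_of_mul_eq_one_left h.kkk] at e
  rw [e, mul_inv_rev, inv_inv, inv_inv, c1.1 h.dk']

theorem ab : Ac j (w * j ⟨0, 1, 0⟩) 1 1 1 0 := (h.aw.mul (ac_S j _)).of_eq (by simp)

theorem wb : (w * j ⟨0, 1, 0⟩) ^ 3 = 1 := by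
  obtain ⟨a, c, e⟩ := h.exV1 (((h.ab.mul h.ab).mul h.ab).of_eq (by decide +kernel))
  have := h.ab a c
  rw [← e, show ∀ x : G, x * (x * x * x) * x⁻¹ = x * x * x from fun x => by group, e] at this
  obtain ⟨rfl, rfl⟩ := (by decide +kernel : ∀ a c : F4, (⟨a, 0, c⟩ : T3) =
    ⟨1 * a + 1 * c, 0, 1 * a + 0 * c⟩ → a = 0 ∧ c = 0) a c (h.sj.inj this)
  rw [pow_three', e, ← T3.one_def, map_one]

theorem uz (c : F4) : u * j ⟨0, 0, c⟩ * u⁻¹ = j ⟨0, c, 0⟩ := by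
  rw [← jt_Z j (mem_Z0.2 ⟨rfl, rfl⟩), h.au]
  exact congrArg j (by simp [tau_def])

theorem wz (c : F4) : w * j ⟨0, 0, c⟩ * w⁻¹ = j ⟨c, 0, 0⟩ := by rw [h.aw]; simp

theorem eb (c : F4) : k * d ∈ Cen1 (j ⟨0, c, 0⟩) := c1'.2 (by
  have := (h.dk.mul h.dd).2.2 c 0
  rwa [show om ^ 2 * om = 1 by decide +kernel, mul_zero, mul_zero, zero_mul, add_zero, add_zero,
    one_mul, show jt j ⟨c, 0, 0⟩ = j ⟨0, c, 0⟩ from congrArg j (by simp [tau_def])] at this)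

theorem cb {β : F4} (b0 : β ≠ 0) (h1 : n ∈ Cen1 (k * d)) (h2 : n ∈ Cen1 (j ⟨0, β, 0⟩)) :
    n ∈ Cen1 (j ⟨0, 1, 0⟩) ⊓ Nor (VV j) := by
  rw [← h.ud, ← conj_c1, mem_conjS] at h1
  rw [← h.uz, ← conj_c1, mem_conjS] at h2
  obtain ⟨l, m, t⟩ := exists_ty h.sj (h.czS (mZ j β) (ine (oz h.sj b0)) h2)
  have k1 : ∀ g, g ∈ Cen1 d → Ty j g 1 1 → u * g * u⁻¹ ∈ Cen1 (j ⟨0, 1, 0⟩) ⊓ Nor (VV j) :=
    fun g h1 t => by
      obtain ⟨c, rfl⟩ := exZ (fpf h.sj h.dd.1 (by decide +kernel) (by decide +kernel) (h.one t)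
        (c1'.1 (c1s.1 h1))).1
      rw [h.uz]
      exact ⟨h.sj.comm.2 (by simp [T3.mul_def, add_comm]), SV j ⟨_, rfl⟩⟩
  have k2 : u * d * u⁻¹ ∈ Cen1 (j ⟨0, 1, 0⟩) ⊓ Nor (VV j) := h.ud ▸ ⟨h.eb 1, h.ae.nor⟩
  have dd : d ∈ Cen1 d := c1.2 rfl
  rw [show n = u * (u⁻¹ * n * u) * u⁻¹ by group]
  generalize u⁻¹ * n * u = g at *
  rcases (by decide +kernel : ∀ l m c : F4, c ≠ 0 → c = l * m * c → (l = 1 ∧ m = 1) ∨
    (l * om ^ 2 = 1 ∧ m * om = 1) ∨ (l * om ^ 2 * om ^ 2 = 1 ∧ m * om * om = 1)) l m β b0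
    ((t.get h.sj (c1'.1 h2)).2.2 rfl rfl) with ⟨rfl, rfl⟩ | ⟨e1, e2⟩ | ⟨e1, e2⟩
  · exact k1 g h1 t
  · have := k1 _ (mul_mem h1 dd) (by simpa only [e1, e2] using t.mul h.dd.1)
    rwa [← conj_mul, mul_mem_cancel_right k2] at this
  · have := k1 _ (mul_mem (mul_mem h1 dd) dd) (by
      simpa only [e1, e2] using (t.mul h.dd.1).mul h.dd.1)
    rwa [← conj_mul, ← conj_mul, mul_mem_cancel_right k2, mul_mem_cancel_right k2] at this

theorem kb (c : F4) : k * j ⟨0, c, 0⟩ * k⁻¹ = j ⟨0, om ^ 2 * c, 0⟩ := by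
  have e : ∀ c, jt j ⟨c, 0, 0⟩ = j ⟨0, c, 0⟩ := fun c => congrArg j (by simp [tau_def])
  rw [← e, ← e, h.dk.2.2]; simp

theorem cjb {B : Subgroup G} (hk : k ∈ B) {c : F4} (c0 : c ≠ 0) :
    Cj B (j ⟨0, 1, 0⟩) (j ⟨0, c, 0⟩) := by
  rcases (by decide +kernel : ∀ c : F4, c ≠ 0 → c = 1 ∨ c = om ^ 2 * 1 ∨ c = om ^ 2 * (om ^ 2 * 1))
    c c0 with rfl | rfl | rfl
  exacts [MT.Cj.refl _ _, ⟨k, hk, h.kb 1⟩, MT.Cj.trans ⟨k, hk, h.kb 1⟩ ⟨k, hk, h.kb _⟩]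

theorem ob {c : F4} (c0 : c ≠ 0) : orderOf (j ⟨0, c, 0⟩) = 2 := h.uz c ▸ iconj (oz h.sj c0) u

theorem cenE : Cen1 (k * d) ≤ Nor (VV j) := by
  by_contra hn
  have o := h.ob one_ne_zero
  have o' := h.ob (c := om) (by decide)
  have bm : ∀ c, j ⟨0, c, 0⟩ ∈ Cen1 (k * d) ⊓ Nor (VV j) := fun c => ⟨c1s.1 (h.eb c), SV j ⟨_, rfl⟩⟩
  have f : GW.F4 (j ⟨0, 1, 0⟩) (j ⟨0, om, 0⟩) := ⟨o, o', c1.1 (h.sj.comm.2 (by decide +kernel)),
    fun e => absurd (h.sj.inj e) (by decide +kernel)⟩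
  have se := sein_one inf_le_left (bm 1) o (fun t ht ot => ?_)
    (fun n hn => ⟨hn.1, (h.cb one_ne_zero hn.1 hn.2).2⟩) fun e => hn (e.trans inf_le_right)
  · have e := (MT.se_facts se ⟨_, (bm 1).1, _, (bm om).1, ⟨ine o, ii o⟩, ⟨ine o', ii o'⟩, f.ne.symm,
      f.c⟩).1 w ⟨c1'.2 h.we, h.aw.nor⟩ _ (bm 1) h.ww (ii o)
    have k : ∀ c, c ≠ 0 → Oo (Cen1 (k * d)) ⊓ Cen1 (j ⟨0, c, 0⟩) ≤ Cen1 (j ⟨0, 1, 0⟩) :=
      fun c c0 n hn => (h.cb c0 (W.Oo_le _ hn.1) hn.2).1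
    have e1 := f.gen (lOo _ (bm 1).1) (lOo _ (bm om).1) (odd_Oo _) (k 1 one_ne_zero)
      (k om (by decide)) (by
        rw [← map_mul]; exact k (1 + om) (by decide +kernel)) e
    rw [eq_inv_of_mul_eq_one_left ((pow_three' _).symm.trans h.wb), inv_mem_iff,
      mul_mem_cancel_right (c1.2 rfl)] at e1
    have := h.ab
    rw [c1.1 e1] at this
    simpa using (((ac_S j _).mul h.aw).uniq h.sj this).1
  obtain ⟨m, hm, e⟩ := conj_in2 (h.sj.syl.of_le (SV j) le_top) ht.2 (ii ot)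
  obtain ⟨x, y, z, s, a1⟩ := h.sV.lin h.sj hm
  obtain ⟨x', y', z', s', a2⟩ := h.sV.lin h.sj (inv_mem hm)
  obtain ⟨b1, b2, b3, b4⟩ := (a1.mul a2).uniq h.sj (x' := 1) (y' := 0) (z' := 0) (t' := 1)
    (by rw [mul_inv_cancel, ← map_one j]; exact ac_S j 1)
  have o3 : om ^ 3 = 1 := by decide +kernel
  obtain ⟨a, c, e1⟩ := h.exV1 ((((a1.mul h.ae).mul a2).mul (h.ae.inv (x' := om ^ 2) (y' := 0)
    (z' := 0) (t' := om ^ 2) (by decide +kernel) (by simp) (by simp) (by decide +kernel))).of_eq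
    ⟨by linear_combination om ^ 3 * b1 + o3, by linear_combination om ^ 3 * b2,
      by linear_combination om ^ 3 * b3, by linear_combination om ^ 3 * b4 + o3⟩)
  have e2 := h.ae.adj (by decide) (by decide) e1
  generalize a * (1 + om)⁻¹ = a at e2
  generalize c * (1 + om)⁻¹ = c at e2
  have m1 : j ⟨a, 0, c⟩ * m ∈ Cen1 (k * d) ⊓ Nor (VV j) :=
    mem_inf.2 ⟨c1'.2 (Eq.trans (by group) e2), mul_mem (SV j ⟨_, rfl⟩) hm⟩
  obtain ⟨s, e3⟩ : j ⟨a, 0, c⟩ * m * t * (j ⟨a, 0, c⟩ * m)⁻¹ ∈ j.range :=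
    mem_of_eq (cmem (le_normalizer ⟨⟨a, 0, c⟩, rfl⟩) e) (by group)
  have e4 := c1'.1 (c1s.1 (e3 ▸ mul_mem (mul_mem (mem_inf.1 m1).1 (mem_inf.1 ht).1)
    (inv_mem (mem_inf.1 m1).1)))
  have a0 := (by decide +kernel : ∀ a : F4, a = om ^ 2 * om ^ 2 * a → a = 0) _
    ((h.dk.mul h.dd).1.get h.sj e4).1
  have e5 : j s = jt j ⟨s.b, 0, s.c⟩ := congrArg j (T3.ext a0 rfl (by simp [tau_def]))
  rw [e5, (h.dk.mul h.dd).2.2] at e4
  have c0 := (by decide +kernel : ∀ b c : F4, 0 * b + om ^ 2 * om * (om ^ 2 * om ^ 2) * c = c →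
    c = 0) _ _ (congrArg T3.c ((sjt h.sj).inj e4))
  rw [show s = ⟨0, s.b, 0⟩ from T3.ext a0 rfl c0] at e3
  exact (h.cjb (mem_inf.2 ⟨c1s.1 h.ek, h.dk.1.norV⟩) fun b0 => ine (iconj ot _) (by
    rw [← e3, b0, ← T3.one_def, map_one])).trans (MT.Cj.symm ⟨_, m1, e3.symm⟩)

theorem ua : (u * j ⟨1, 0, 0⟩) ^ 3 = 1 := h.symm.wb

theorem braid : (w * u) ^ 3 = 1 := by
  have r : ∀ x, w * u * x * (w * u)⁻¹ = w * (u * x * u⁻¹) * w⁻¹ := fun x => by group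
  have c1 : w * u ∈ Cen1 k := c1'.2 (by rw [r, h.uk, ← conj_inv, h.wk, inv_inv])
  have e1 : w * u * d * (w * u)⁻¹ = k * d := by rw [r, h.ud, h.we]
  have c2 : (w * u) ^ 3 ∈ Cen1 d := c1'.2 (by
    have e2 := c1'.1 c1
    generalize w * u = x at *
    have e3 : ∀ y, x * (k * y) * x⁻¹ = k * (x * y * x⁻¹) := fun y => by rw [← conj_mul, e2]
    rw [show x ^ 3 * d * (x ^ 3)⁻¹ = x * (x * (x * d * x⁻¹) * x⁻¹) * x⁻¹ by rw [pow_three']; group,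
      e1, e3, e1, e3, e3, e1, ← mul_assoc, ← mul_assoc, h.kkk, one_mul])
  have c3 := pow_mem c1 3
  have n1 : (w * u) ^ 3 ∈ Nor (ZZ j) := VW_inf h.sj ▸ minf
    (h.cenE (c1s.1 (mul_mem (c1s.1 c3) (c1s.1 c2))))
    (h.symm.cenE (c1s.1 (mul_mem (c1s.1 c3) (inv_mem (c1s.1 c2)))))
  have e2 := braid_sq (sqV (mV j 0 1)) h.uu h.ww (h.wz 1 ▸ h.ua) (h.uz 1 ▸ h.wb) rfl
    (sqV (ZV j (mul_mem (cmem' n1 (mZ j 1)) (mZ j 1))))
  obtain ⟨g, hg, e⟩ := conj_in2 (h.sj.syl.of_le le_normalizer le_top) (h.NZS n1) e2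
  exact h.fk (by simpa [mul_assoc] using cmem' hg e) (c1'.1 (c1s.1 c3))

theorem rel : CIT.Rel (j ⟨0, 0, 1⟩) k u (j ⟨1, 0, 0⟩) (j ⟨0, 1, 0⟩) w := by
  have inv : ∀ {u : G}, u * u = 1 → u * k * u⁻¹ = k⁻¹ → u * k * u * k = 1 := fun uu e => by
    rw [inv_eq_of_mul_eq_one_right uu] at e
    rw [e, inv_mul_cancel]
  have df : ∀ {u : G}, u * u = 1 → u * j ⟨0, 0, 1⟩ * u⁻¹ * u * j ⟨0, 0, 1⟩ * u = 1 := fun uu => by
    rw [inv_mul_cancel_right, mul_assoc _ (j _) (j _), sqV (mV j 0 1), mul_one, uu]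
  have ki := (h.dk.inv h.sj).2.1
  simp only [Ac, inv_inv] at ki
  refine ⟨sqV (mV j 0 1), h.uu, sqV (mV j 1 0), ii (h.ob one_ne_zero), h.ww, h.kkk, inv h.uu h.uk,
    ?_, h.uz 1 ▸ df h.uu, ?_, ?_, ?_, pow_three' (u * _) ▸ h.ua, inv h.ww h.wk, h.wz 1 ▸ df h.ww,
    pow_three' (u * w) ▸ h.symm.braid⟩
  all_goals simp only [h.dk.2.1 _ _, ki, h.kb, ← map_mul]
  all_goals exact (congrArg j (by decide +kernel)).trans (map_one j)

end Cf

end P3
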