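import Cfsg.Agent.P3.A

/-! Linear coordinates on `V`. -/

set_option autoImplicit false
set_option linter.unusedVariables false
set_option linter.unusedSectionVars false

namespace P3

open Cfsg Subgroup FT H4 H5 GW A8
open H2 (F4)

universe u

variable {G : Type u} [Group G] [Finite G]

/-- a multiplicatively closed set of a finite group -/
def subOf (P : G → Prop) (h1 : P 1) (hm : ∀ a b, P a → P b → P (a * b)) : Subgroup G where
  carrier := {x | P x}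
  one_mem' := h1
  mul_mem' := hm _ _
  inv_mem' {x} hx := (Submonoid.powers_le (P := ⟨⟨{x | P x}, hm _ _⟩, h1⟩)).2 hx
    (mem_powers_iff_mem_zpowers.2 (inv_mem (mem_zpowers x)))

theorem two_ind {S K N : Subgroup G} (hS : IsSylowOf 2 S N) (h1 : S ≤ K)
    (h2 : ∀ a ∈ N, ∀ b ∈ N, a ∉ K → b ∉ K → a * b ∈ K) : N ≤ K := by
  by_contra hn
  obtain ⟨a, ha, aK⟩ := SetLike.not_le_iff_exists.1 hn
  rcases (Nat.dvd_prime Nat.prime_two).1 (relIndex_dvd_two_iff.2 ⟨a, ha, fun b hb =>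
    or_iff_not_imp_right.2 fun e => h2 b hb a ha e aK⟩) with e | e
  · exact hn (relIndex_eq_one.1 e)
  · exact hS.3 (e ▸ relIndex_dvd_of_le_left N h1)

/-- `g` acts on `V` by a matrix -/
def Ac (j : T3 →* G) (g : G) (x y z t : F4) : Prop :=
  ∀ a c, g * j ⟨a, 0, c⟩ * g⁻¹ = j ⟨x * a + y * c, 0, z * a + t * c⟩

theorem Ac.mul {j : T3 →* G} {g g' : G} {x y z t x' y' z' t' : F4} (h : Ac j g x y z t)
    (h' : Ac j g' x' y' z' t') :
    Ac j (g * g') (x * x' + y * z') (x * y' + y * t') (z * x' + t * z') (z * y' + t * t') :=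
  fun a c => by
    rw [show g * g' * j ⟨a, 0, c⟩ * (g * g')⁻¹ = g * (g' * j ⟨a, 0, c⟩ * g'⁻¹) * g⁻¹ by group, h', h]
    exact congrArg j (T3.ext (by ring) rfl (by ring))

theorem ac_S (j : T3 →* G) (s : T3) : Ac j (j s) 1 0 s.b 1 := fun a c => by
  rw [← map_inv, ← map_mul, ← map_mul]
  exact congrArg j (by revert s a c; decide +kernel)

theorem Ac.uniq {j : T3 →* G} {g : G} {x y z t x' y' z' t' : F4} (h : Ac j g x y z t) (hj : SJ j)
    (h' : Ac j g x' y' z' t') : x = x' ∧ y = y' ∧ z = z' ∧ t = t' := by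
  have e1 := hj.inj ((h 1 0).symm.trans (h' 1 0))
  have e2 := hj.inj ((h 0 1).symm.trans (h' 0 1))
  simp only [T3.mk.injEq, mul_one, mul_zero, add_zero, zero_add, true_and] at e1 e2
  exact ⟨e1.1, e2.1, e1.2, e2.2⟩

theorem Ac.nor {j : T3 →* G} {g : G} {x y z t : F4} (h : Ac j g x y z t) : g ∈ Nor (VV j) :=
  mnor fun v hv => by
    obtain ⟨a, c, rfl⟩ := exV hv
    exact h a c ▸ mV j _ _

/-- the elements acting linearly on `V` -/
def Li (j : T3 →* G) : Subgroup G := subOf (fun g => ∃ x y z t, Ac j g x y z t)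
  ⟨_, _, _, _, map_one j ▸ ac_S j 1⟩ fun _ _ ⟨_, _, _, _, h⟩ ⟨_, _, _, _, h'⟩ => ⟨_, _, _, _, h.mul h'⟩

theorem S_Li (j : T3 →* G) : j.range ≤ Li j := by
  rintro _ ⟨s, rfl⟩
  exact ⟨_, _, _, _, ac_S j s⟩

/-- the coordinate axis is conjugate to the centre -/
def StdV (j : T3 →* G) : Prop :=
  ∃ g ∈ Nor (VV j), ∀ a, ∃ d, g * j ⟨0, 0, d⟩ * g⁻¹ = j ⟨a, 0, 0⟩

theorem vadd (j : T3 →* G) (a c a' c' : F4) :
    j ⟨a + a', 0, c + c'⟩ = j ⟨a, 0, c⟩ * j ⟨a', 0, c'⟩ := by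
  rw [← map_mul]; exact congrArg j (by simp [T3.mul_def])

theorem VV_eq {j j' : T3 →* G} (e : ∀ a c, ∃ c', j ⟨a, 0, c⟩ = j' ⟨a, 0, c'⟩)
    (e' : ∀ a c, ∃ c', j' ⟨a, 0, c⟩ = j ⟨a, 0, c'⟩) : VV j = VV j' :=
  le_antisymm (fun x hx => by
    obtain ⟨a, c, rfl⟩ := exV hx
    obtain ⟨c', e⟩ := e a c
    exact e ▸ mV j' _ _) fun x hx => by
    obtain ⟨a, c, rfl⟩ := exV hx
    obtain ⟨c', e⟩ := e' a c
    exact e ▸ mV j _ _

theorem VV_sg (j : T3 →* G) (p r : F4) : VV (j.comp (sg p r)) = VV j :=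
  VV_eq (fun a c => ⟨_, rfl⟩) fun a c => ⟨c + p * a + r * a ^ 2, congrArg j (T3.ext rfl rfl (by
    simp only [sg_def]; linear_combination (-p * a - r * a ^ 2) * two0))⟩

theorem range_sg (j : T3 →* G) (p r : F4) : (j.comp (sg p r)).range = j.range := by
  rw [MonoidHom.range_comp, MonoidHom.range_eq_top.2 (sg_bij p r).2, ← MonoidHom.range_eq_map]

theorem sg_W (j : T3 →* G) (p r : F4) {x : T3} (hx : x.a = 0) : j.comp (sg p r) x = j x :=
  congrArg j (T3.ext rfl rfl (by simp [sg_def, hx]))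

set_option synthInstance.maxSize 1024 in
theorem semi {α γ : F4 → F4 → F4} (h1 : ∀ a c a' c', α (a + a') (c + c') = α a c + α a' c')
    (h2 : ∀ a c a' c', γ (a + a') (c + c') = γ a c + γ a' c')
    (h3 : ∀ a c, α a c = 0 → γ a c = 0 → a = 0 ∧ c = 0)
    (h4 : ∀ a c, ∃ l, α (om * a) (om * c) = l * α a c ∧ γ (om * a) (om * c) = l * γ a c) :
    (∃ x y z t, ∀ a c, α a c = x * a + y * c ∧ γ a c = z * a + t * c) ∨
      ∃ x y z t, ∀ a c, α a c = x * a ^ 2 + y * c ^ 2 ∧ γ a c = z * a ^ 2 + t * c ^ 2 := by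
  have k : ∀ α : F4 → F4 → F4, (∀ a c a' c', α (a + a') (c + c') = α a c + α a' c') →
      ∃ p r p' r', ∀ a c, α a c = p * a + r * a ^ 2 + (p' * c + r' * c ^ 2) := fun α h => by
    obtain ⟨p, r, e⟩ := add_form (f := fun a => α a 0) fun x y => by rw [← h, add_zero]
    obtain ⟨p', r', e'⟩ := add_form (f := fun c => α 0 c) fun x y => by rw [← h, add_zero]
    exact ⟨p, r, p', r', fun a c => by rw [← e, ← e', ← h, add_zero, zero_add]⟩
  obtain ⟨p1, r1, p2, r2, e1⟩ := k α h1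
  obtain ⟨p3, r3, p4, r4, e2⟩ := k γ h2
  simp only [e1, e2] at h3 h4 ⊢
  have k1 := (by decide +kernel : ∀ p r p' r' l : F4, (∀ a, p * a + r * a ^ 2 = 0 →
    p' * a + r' * a ^ 2 = 0 → a = 0) → p * om + r * om ^ 2 = l * (p + r) →
    p' * om + r' * om ^ 2 = l * (p' + r') → (r = 0 ∧ r' = 0) ∨ (p = 0 ∧ p' = 0))
  have k2 := (by decide +kernel : ∀ p r p' r' l : F4, (∀ a c, p * a + r * c ^ 2 = 0 →
    p' * a + r' * c ^ 2 = 0 → a = 0 ∧ c = 0) → p * om + r * om ^ 2 = l * (p + r) →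
    p' * om + r' * om ^ 2 ≠ l * (p' + r'))
  obtain ⟨l1, a1, a2⟩ := h4 1 0
  obtain ⟨l2, b1, b2⟩ := h4 0 1
  obtain ⟨l3, c1, c2⟩ := h4 1 1
  rcases k1 p1 r1 p3 r3 l1 (fun a e e' => (h3 a 0 (by simpa using e) (by simpa using e')).1)
    (by simpa using a1) (by simpa using a2) with ⟨rfl, rfl⟩ | ⟨rfl, rfl⟩ <;>
  rcases k1 p2 r2 p4 r4 l2 (fun a e e' => (h3 0 a (by simpa using e) (by simpa using e')).2)
    (by simpa using b1) (by simpa using b2) with ⟨rfl, rfl⟩ | ⟨rfl, rfl⟩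
  · exact Or.inl ⟨p1, p2, p3, p4, fun a c => by simp⟩
  · exact (k2 p1 r2 p3 r4 l3 (fun a c e e' => h3 a c (by simpa using e) (by simpa using e'))
      (by simpa using c1) (by simpa using c2)).elim
  · exact (k2 p2 r1 p4 r3 l3 (fun c a e e' => (h3 a c (by simpa [add_comm] using e)
      (by simpa [add_comm] using e')).symm) (by simpa [add_comm] using c1)
      (by simpa [add_comm] using c2)).elim
  · exact Or.inr ⟨r1, r2, r3, r4, fun a c => by simp⟩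

variable {j : T3 →* G} (h : SJ j) {g n : G} {l m : F4}
include h

theorem sj_sg (p r : F4) : SJ (j.comp (sg p r)) := h.aut _ (sg_bij p r)

theorem exists_std (f : FV j) : ∃ p r, StdV (j.comp (sg p r)) := by
  obtain ⟨g, hg, e⟩ := std0 h f
  choose c d e using e
  have i : Function.Injective d := fun x y exy =>
    congrArg T3.a (h.inj ((e x).symm.trans (exy ▸ e y)))
  obtain ⟨p, r, e'⟩ := add_form (f := c) fun x y => by
    obtain ⟨a, e1⟩ := Finite.surjective_of_injective i (d x + d y)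
    have := e a
    rw [e1, show j ⟨0, 0, d x + d y⟩ = _ from by simpa using vadd j 0 (d x) 0 (d y), ← conj_mul, e,
      e, ← vadd] at this
    obtain ⟨rfl, -, e2⟩ := T3.mk.inj (h.inj this)
    exact e2.symm
  refine ⟨p, r, g, (VV_sg j p r).symm ▸ hg, fun a => ⟨d a, ?_⟩⟩
  rw [sg_W j p r rfl, e, e']
  exact congrArg j (T3.ext rfl rfl (by simp [sg_def]))

theorem StdV.line (s : StdV j) {a c : F4} (h0 : ¬ (a = 0 ∧ c = 0)) : ∃ n ∈ Nor (VV j),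
    (∀ l, ∃ d, n * j ⟨0, 0, d⟩ * n⁻¹ = j ⟨l * a, 0, l * c⟩) ∧
      ∀ d, ∃ l, n * j ⟨0, 0, d⟩ * n⁻¹ = j ⟨l * a, 0, l * c⟩ := by
  have k : ∀ n, (∀ l, ∃ d, n * j ⟨0, 0, d⟩ * n⁻¹ = j ⟨l * a, 0, l * c⟩) →
      ∀ d, ∃ l, n * j ⟨0, 0, d⟩ * n⁻¹ = j ⟨l * a, 0, l * c⟩ := fun n e => by
    choose d e using e
    have i : Function.Injective d := fun x y exy => by
      obtain ⟨e1, -, e2⟩ := T3.mk.inj (h.inj ((e x).symm.trans (exy ▸ e y)))
      by_contra ne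
      exact h0 ⟨(mul_eq_mul_right_iff.1 e1).resolve_left ne, (mul_eq_mul_right_iff.1 e2).resolve_left ne⟩
    exact fun x => let ⟨l, e'⟩ := Finite.surjective_of_injective i x; ⟨l, e' ▸ e l⟩
  by_cases a0 : a = 0
  · have := fun l => (⟨l * c, by simp [a0]⟩ :
      ∃ d, 1 * j ⟨0, 0, d⟩ * 1⁻¹ = j ⟨l * a, 0, l * c⟩)
    exact ⟨1, one_mem _, this, k 1 this⟩
  obtain ⟨g, hg, e⟩ := s
  have : ∀ l, ∃ d, j ⟨0, c * a⁻¹, 0⟩ * g * j ⟨0, 0, d⟩ * (j ⟨0, c * a⁻¹, 0⟩ * g)⁻¹ =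
      j ⟨l * a, 0, l * c⟩ := fun l => by
    obtain ⟨d, e⟩ := e (l * a)
    refine ⟨d, ?_⟩
    rw [mul_inv_rev, ← mul_assoc, mul_assoc _ g, mul_assoc _ _ g⁻¹, e, ac_S]
    exact congrArg j (T3.ext (by simp) rfl (by field_simp; ring))
  exact ⟨_, mul_mem (SV j ⟨_, rfl⟩) hg, this, k _ this⟩

theorem StdV.lin (s : StdV j) : Nor (VV j) ≤ Li j := by
  have k : ∀ g ∈ Nor (VV j), g ∈ Li j ∨ ∃ x y z t, ∀ a c,
      g * j ⟨a, 0, c⟩ * g⁻¹ = j ⟨x * a ^ 2 + y * c ^ 2, 0, z * a ^ 2 + t * c ^ 2⟩ := fun g hg => by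
    choose α γ e using fun a c => exV (cmem hg (mV j a c))
    have e1 := fun a c a' c' => T3.mk.inj (h.inj (a₁ := ⟨α (a + a') (c + c'), 0, γ (a + a') (c + c')⟩)
      (a₂ := ⟨α a c + α a' c', 0, γ a c + γ a' c'⟩) (by rw [vadd, ← e, ← e, ← e, vadd, conj_mul]))
    have e2 : ∀ a c, α a c = 0 → γ a c = 0 → a = 0 ∧ c = 0 := fun a c h1 h2 => by
      have := e a c
      rw [h1, h2, ← T3.one_def, map_one, W.cj1, ← map_one j] at this
      exact ⟨congrArg T3.a (h.inj this), congrArg T3.c (h.inj this)⟩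
    refine (semi (fun a c a' c' => (e1 a c a' c').1) (fun a c a' c' => (e1 a c a' c').2.2) e2
      fun a c => ?_).imp (fun ⟨x, y, z, t, e'⟩ => ⟨x, y, z, t, fun a c => by
        rw [e, (e' a c).1, (e' a c).2]⟩) fun ⟨x, y, z, t, e'⟩ => ⟨x, y, z, t, fun a c => by
        rw [e, (e' a c).1, (e' a c).2]⟩
    by_cases h0 : a = 0 ∧ c = 0
    · exact ⟨1, by simp [h0.1, h0.2]⟩
    obtain ⟨n, -, n1, -⟩ := s.line h h0
    obtain ⟨n', hn', n2, n3⟩ := s.line h (a := α a c) (c := γ a c) fun e => h0 (e2 a c e.1 e.2)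
    obtain ⟨d, e3⟩ := n1 1
    obtain ⟨d', e4⟩ := n2 1
    obtain ⟨d'', e5⟩ := n1 om
    simp only [one_mul] at e3 e4
    have r : ∀ x, n'⁻¹ * g * n * x * (n'⁻¹ * g * n)⁻¹ = n'⁻¹ * (g * (n * x * n⁻¹) * g⁻¹) * n' :=
      fun x => by group
    obtain ⟨x, y, e6⟩ := exV (cmem' hn' (mV j (α (om * a) (om * c)) (γ (om * a) (om * c))))
    obtain rfl := (ti h (g := n'⁻¹ * g * n) (c := d) (d := d'') (c' := d') (fun e => h0 (by
      rw [e, ← T3.one_def, map_one, mul_one, mul_inv_cancel, ← map_one j] at e3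
      exact ⟨(congrArg T3.a (h.inj e3)).symm, (congrArg T3.c (h.inj e3)).symm⟩))
      (by rw [r, e3, e, ← e4]; group) (by rw [r, e5, e, e6])).1
    obtain ⟨l, e7⟩ := n3 y
    rw [← e6, show n' * (n'⁻¹ * j ⟨α (om * a) (om * c), 0, γ (om * a) (om * c)⟩ * n') * n'⁻¹ =
      j ⟨α (om * a) (om * c), 0, γ (om * a) (om * c)⟩ by group] at e7
    exact ⟨l, congrArg T3.a (h.inj e7), congrArg T3.c (h.inj e7)⟩
  refine two_ind (h.syl.of_le (SV j) le_top) (S_Li j) fun g hg g' hg' h1 h2 => ?_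
  obtain ⟨x, y, z, t, e⟩ := (k g hg).resolve_left h1
  obtain ⟨x', y', z', t', e'⟩ := (k g' hg').resolve_left h2
  refine ⟨x * x' ^ 2 + y * z' ^ 2, x * y' ^ 2 + y * t' ^ 2, z * x' ^ 2 + t * z' ^ 2,
    z * y' ^ 2 + t * t' ^ 2, fun a c => ?_⟩
  have q := (by decide +kernel : ∀ x y a c : F4, (x * a ^ 2 + y * c ^ 2) ^ 2 = x ^ 2 * a + y ^ 2 * c)
  rw [show g * g' * j ⟨a, 0, c⟩ * (g * g')⁻¹ = g * (g' * j ⟨a, 0, c⟩ * g'⁻¹) * g⁻¹ by group, e', e, q, q]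
  exact congrArg j (T3.ext (by ring) rfl (by ring))

theorem Ty.qv (t : Ty j n l m) : ∃ p r, ∀ a c,
    n * j ⟨a, 0, c⟩ * n⁻¹ = j ⟨l * a, 0, l * m * c + (p * a + r * a ^ 2)⟩ := by
  choose d e using fun a => t.v a 0
  obtain ⟨p, r, e'⟩ := add_form (f := d) fun x y => by
    have := e (x + y)
    rw [show j ⟨x + y, 0, 0⟩ = _ from zero_add (0 : F4) ▸ vadd j x 0 y 0, ← conj_mul, e, e,
      ← vadd] at this
    exact (congrArg T3.c (h.inj this)).symm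
  refine ⟨p, r, fun a c => ?_⟩
  rw [← e', ← zero_add a, ← add_zero c, vadd, ← conj_mul, t.z, e, ← vadd]
  simp

theorem Ty.li (t : Ty j n l l) : n ∈ Li j := by
  obtain ⟨_, ⟨s, rfl⟩, y, hy, ho, rfl⟩ := odd_part h.syl (mem_top n) t.1
  have t' := ((ty_S j s).inv h).mul t
  rw [inv_mul_cancel_left] at t'
  refine mul_mem (S_Li j ⟨s, rfl⟩) (GW.mem_of_sq_mem ho ?_)
  obtain ⟨p, r, e⟩ := t'.qv h
  generalize 1⁻¹ * l = l at e
  refine ⟨l * l, 0, l * l * p + p * l, l * l * (l * l), fun a c => ?_⟩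
  rw [show y * y * j ⟨a, 0, c⟩ * (y * y)⁻¹ = y * (y * j ⟨a, 0, c⟩ * y⁻¹) * y⁻¹ by group, e, e]
  exact congrArg j (T3.ext (by ring) rfl (by linear_combination (l ^ 2 * r * a ^ 2) * two0))

theorem NS_li (t : Ty j n l m) (lm : l ≠ m) (hn : n ∈ Li j) : Nor j.range ≤ Li j := fun g hg => by
  obtain ⟨l', m', t'⟩ := exists_ty h hg
  rcases (by decide +kernel : ∀ l m l' m' : F4, l ≠ 0 → m ≠ 0 → l' ≠ 0 → m' ≠ 0 → l ≠ m → m' = l' ∨
    m * m' = l * l' ∨ m * (m * m') = l * (l * l')) l m l' m' t.2.1 t.2.2.1 t'.2.1 t'.2.2.1 lm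
    with e | e | e
  · exact (e ▸ t').li h
  · exact (mul_mem_cancel_left hn).1 ((e ▸ t.mul t').li h)
  · exact (mul_mem_cancel_left hn).1 ((mul_mem_cancel_left hn).1 ((e ▸ t.mul (t.mul t')).li h))

theorem exists_lin : ∃ j' : T3 →* G, SJ j' ∧ VV j' = VV j ∧ Nor (VV j') ≤ Li j' := by
  by_cases f : FV j
  · obtain ⟨p, r, s⟩ := exists_std h f
    exact ⟨_, sj_sg h p r, VV_sg j p r, s.lin (sj_sg h p r)⟩
  have k : ∀ j' : T3 →* G, SJ j' → ZZ j' = ZZ j → VV j' = VV j → Nor j'.range ≤ Li j' →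
      Nor (VV j') ≤ Li j' := fun j' h' e1 e2 e3 g hg => by
    obtain ⟨n, hn, e⟩ := act_NS h' hg (e1 ▸ NVZ h f (e2 ▸ hg))
    obtain ⟨x, y, z, t, e'⟩ := e3 hn
    exact ⟨x, y, z, t, fun a c => (e _ (mV j' a c)).trans (e' a c)⟩
  by_cases e : ∃ n l m, Ty j n l m ∧ l ≠ m
  · obtain ⟨n, l, m, t, lm⟩ := e
    obtain ⟨p, r, e⟩ := t.qv h
    obtain ⟨ε, hε⟩ := (by decide +kernel : ∀ l m r : F4, l ≠ 0 → l ≠ m →
      ∃ ε, l * m * ε + r = ε * l ^ 2) l m r t.2.1 lm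
    have h' := sj_sg h 0 ε
    have e' : Ac (j.comp (sg 0 ε)) n l 0 p (l * m) := fun a c =>
      (e _ _).trans (congrArg j (T3.ext (by simp [sg_def]) rfl (by
        simp only [sg_def]; linear_combination a ^ 2 * hε)))
    obtain ⟨l', m', t'⟩ := exists_ty h' ((range_sg j 0 ε).symm ▸ t.1)
    refine ⟨_, h', VV_sg j 0 ε, k _ h' (le_antisymm ?_ ?_) (VV_sg j 0 ε)
      (NS_li h' t' (fun e1 => lm ?_) ⟨_, _, _, _, e'⟩)⟩
    · rintro _ ⟨x, hx, rfl⟩; exact ⟨x, hx, (sg_W j 0 ε (mem_Z0.1 hx).1).symm⟩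
    · rintro _ ⟨x, hx, rfl⟩; exact ⟨x, hx, sg_W j 0 ε (mem_Z0.1 hx).1⟩
    · have e2 := (t'.get h' (e' 1 0)).1
      have e3 := (t'.get h' (e' 0 1)).2.2 rfl rfl
      simp only [mul_one, mul_zero, add_zero, zero_add] at e2 e3
      rw [← e1, ← e2] at e3
      exact (mul_left_cancel₀ t.2.1 e3).symm
  · refine ⟨j, h, rfl, k j h rfl rfl fun n hn => ?_⟩
    obtain ⟨l, m, t⟩ := exists_ty h hn
    obtain rfl : l = m := by_contra fun e' => e ⟨n, l, m, t, e'⟩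
    exact t.li h

end P3
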