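import Cfsg.Agent.A8.J
import Cfsg.Agent.H2.Psl34

/-! The group of unitriangular matrices of degree three over the field with four elements. -/

set_option autoImplicit false

namespace P3

open H2 Subgroup

/-- the matrix with entries `a`, `b` next to the diagonal and `c` in the corner -/
@[ext] structure T3 where
  a : F4
  b : F4
  c : F4
  deriving DecidableEq

/-- a primitive element -/
abbrev om : F4 := ⟨2⟩

theorem two0 : (2 : F4) = 0 := by decide +kernel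
theorem aa (x : F4) : x + x = 0 := by revert x; decide +kernel

namespace T3

instance instMulT3 : Mul T3 := ⟨fun x y => ⟨x.a + y.a, x.b + y.b, x.c + y.c + x.a * y.b⟩⟩
instance instOneT3 : One T3 := ⟨⟨0, 0, 0⟩⟩
instance instInvT3 : Inv T3 := ⟨fun x => ⟨x.a, x.b, x.c + x.a * x.b⟩⟩

theorem mul_def (x y : T3) : x * y = ⟨x.a + y.a, x.b + y.b, x.c + y.c + x.a * y.b⟩ := rfl
theorem one_def : (1 : T3) = ⟨0, 0, 0⟩ := rfl
theorem inv_def (x : T3) : x⁻¹ = ⟨x.a, x.b, x.c + x.a * x.b⟩ := rfl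

/-- coordinates -/
def equivProd : F4 × F4 × F4 ≃ T3 where
  toFun x := ⟨x.1, x.2.1, x.2.2⟩
  invFun x := (x.a, x.b, x.c)
  left_inv _ := rfl
  right_inv _ := rfl

instance instFintypeT3 : Fintype T3 := Fintype.ofEquiv _ equivProd

instance instGroupT3 : Group T3 := Group.ofLeftAxioms
  (fun x y z => by simp only [mul_def, T3.mk.injEq]; refine ⟨?_, ?_, ?_⟩ <;> ring)
  (by decide +kernel) (by decide +kernel)

theorem card_T3 : Fintype.card T3 = 64 := by decide +kernel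

end T3

def inV (x : T3) : Bool := x.b = 0
def inZ (x : T3) : Bool := x.a = 0 ∧ x.b = 0

def V0 : Subgroup T3 := A8.sub inV (by decide +kernel)
def Z0 : Subgroup T3 := A8.sub inZ (by decide +kernel)

theorem mem_V0 {x : T3} : x ∈ V0 ↔ x.b = 0 := decide_eq_true_iff
theorem mem_Z0 {x : T3} : x ∈ Z0 ↔ x.a = 0 ∧ x.b = 0 := decide_eq_true_iff

theorem card_V0 : (Finset.univ.filter fun c => inV c = true).card = 16 := by decide +kernel
theorem card_Z0 : (Finset.univ.filter fun c => inZ c = true).card = 4 := by decide +kernel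

/-- the graph automorphism -/
def tau : T3 →* T3 := MonoidHom.mk' (fun x => ⟨x.b, x.a, x.c + x.a * x.b⟩) (by decide +kernel)

theorem tau_tau : ∀ x, tau (tau x) = x := by decide +kernel
theorem tau_bij : Function.Bijective tau := Function.Involutive.bijective tau_tau
theorem tau_def (x : T3) : tau x = ⟨x.b, x.a, x.c + x.a * x.b⟩ := rfl

/-- central automorphisms -/
def sg (p r : F4) : T3 →* T3 := MonoidHom.mk' (fun x => ⟨x.a, x.b, x.c + p * x.a + r * x.a ^ 2⟩)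
  fun x y => by
    simp only [T3.mul_def, T3.mk.injEq, true_and]
    linear_combination (r * x.a * y.a) * two0

theorem sg_def (p r : F4) (x : T3) : sg p r x = ⟨x.a, x.b, x.c + p * x.a + r * x.a ^ 2⟩ := rfl

theorem sg_bij (p r : F4) : Function.Bijective (sg p r) :=
  Function.Involutive.bijective fun x => by
    simp only [sg_def, T3.ext_iff, true_and]
    linear_combination (p * x.a + r * x.a ^ 2) * two0

theorem inv_cases : ∀ s : T3, s * s = 1 → s.a = 0 ∨ s.b = 0 := by decide +kernel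
theorem cen_V : ∀ s x : T3, s.b = 0 → s.a ≠ 0 → (x * s = s * x ↔ x.b = 0) := by decide +kernel
theorem cen_Z : ∀ s x : T3, s.a = 0 → s.b = 0 → x * s = s * x := by decide +kernel
theorem V_comm : ∀ s x : T3, s.b = 0 → x.b = 0 → x * s = s * x := by decide +kernel
theorem V_sq : ∀ s : T3, s.b = 0 → s * s = 1 := by decide +kernel
theorem Z_iff : ∀ s : T3, s * ⟨1, 0, 0⟩ = ⟨1, 0, 0⟩ * s → s * ⟨0, 1, 0⟩ = ⟨0, 1, 0⟩ * s →
    s.a = 0 ∧ s.b = 0 := by decide +kernel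

theorem add_form {f : F4 → F4} (h : ∀ x y, f (x + y) = f x + f y) :
    ∃ p r, ∀ x, f x = p * x + r * x ^ 2 := by
  obtain ⟨p, r, h1, h2⟩ := (by decide +kernel : ∀ u v : F4, ∃ p r : F4, u = p * 1 + r * 1 ^ 2 ∧
    v = p * om + r * om ^ 2) (f 1) (f om)
  refine ⟨p, r, fun x => ?_⟩
  rcases (by decide +kernel : ∀ x : F4, x = 1 + 1 ∨ x = 1 ∨ x = om ∨ x = 1 + om) x with
    rfl | rfl | rfl | rfl
  · rw [h, aa, aa]; ring
  · exact h1
  · exact h2
  · rw [h, h1, h2]; linear_combination (-r * om) * two0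

theorem odd_ind {G : Type*} [Group G] {x : G} (h : Odd (orderOf x)) {P : G → Prop} (h1 : P 1)
    (hm : ∀ a b, P a → P b → P (a * b)) (h2 : P (x * x)) : P x := by
  obtain ⟨n, e⟩ := GW.exists_sqrt h
  have : ∀ n : ℕ, P ((x * x) ^ n) := fun n => by
    induction n with
    | zero => exact pow_zero (x * x) ▸ h1
    | succ n ih => exact pow_succ (x * x) n ▸ hm _ _ ih h2
  rw [← e, ← (Commute.refl x).mul_pow]
  exact this n

theorem sect {φ : MulAut T3} (ho : Odd (orderOf φ)) {D : T3 → Prop} {κ : T3 → F4} {f : F4 → F4}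
    (hD : ∀ s, D s → D (φ s)) (hf : ∀ s, D s → κ (φ s) = f (κ s))
    (h1 : ∀ x y, f (x + y) = f x + f y) (h2 : ∀ x, f x = 0 → x = 0) :
    ∃ l, l ≠ 0 ∧ ∀ s, D s → κ (φ s) = l * κ s := by
  obtain ⟨p, r, e⟩ := add_form h1
  simp only [e] at h2 hf
  rcases (by decide +kernel : ∀ p r : F4, (∀ x, p * x + r * x ^ 2 = 0 → x = 0) → (p ≠ 0 ∧ r = 0) ∨
    ∀ x, p * (p * x + r * x ^ 2) + r * (p * x + r * x ^ 2) ^ 2 = x) p r h2 with ⟨h3, rfl⟩ | h3
  · exact ⟨p, h3, fun s hs => by rw [hf s hs]; ring⟩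
  · refine ⟨1, one_ne_zero, fun s hs => ?_⟩
    rw [one_mul]
    exact (odd_ind ho (P := fun ψ => ∀ s, D s → D (ψ s) ∧ κ (ψ s) = κ s) (fun s hs => ⟨hs, rfl⟩)
      (fun a b ha hb s hs => ⟨(ha _ (hb s hs).1).1, (ha _ (hb s hs).1).2.trans (hb s hs).2⟩)
      (fun s hs => ⟨hD _ (hD s hs), by
        rw [MulAut.mul_apply, hf _ (hD s hs), hf s hs, h3]⟩) s hs).2

/-- the type of an automorphism -/
def Lin (φ : T3 → T3) (l m : F4) : Prop := l ≠ 0 ∧ m ≠ 0 ∧ ∀ s, (φ s).a = l * s.a ∧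
  (φ s).b = m * s.b ∧ (s.a = 0 → s.b = 0 → (φ s).c = l * m * s.c)

theorem aut_cases (φ : MulAut T3) :
    (∀ s, (s.b = 0 → (φ s).b = 0) ∧ (s.a = 0 → (φ s).a = 0)) ∨
      ∀ s, (s.b = 0 → (φ s).a = 0) ∧ (s.a = 0 → (φ s).b = 0) := by
  have c : ∀ x y, φ x * φ y = φ y * φ x ↔ x * y = y * x := fun x y => by
    rw [← map_mul, ← map_mul, φ.injective.eq_iff]
  have q : ∀ x, x * x = 1 → φ x * φ x = 1 := fun x e => by rw [← map_mul, e, map_one]
  have := (by decide +kernel : ∀ v w : T3, v * v = 1 → w * w = 1 → v * w ≠ w * v →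
    (∀ s, (s * v = v * s → s.b = 0) ∧ (s * w = w * s → s.a = 0)) ∨
      ∀ s, (s * v = v * s → s.a = 0) ∧ (s * w = w * s → s.b = 0)) (φ ⟨1, 0, 0⟩) (φ ⟨0, 1, 0⟩)
    (q _ (by decide +kernel)) (q _ (by decide +kernel)) (mt (c _ _).1 (by decide +kernel))
  have e1 : ∀ s : T3, s.b = 0 → s * ⟨1, 0, 0⟩ = ⟨1, 0, 0⟩ * s := by decide +kernel
  have e2 : ∀ s : T3, s.a = 0 → s * ⟨0, 1, 0⟩ = ⟨0, 1, 0⟩ * s := by decide +kernel
  exact this.imp (fun h s => ⟨fun e => (h _).1 ((c _ _).2 (e1 s e)),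
    fun e => (h _).2 ((c _ _).2 (e2 s e))⟩) fun h s => ⟨fun e => (h _).1 ((c _ _).2 (e1 s e)),
    fun e => (h _).2 ((c _ _).2 (e2 s e))⟩

theorem aut_lin {φ : MulAut T3} (ho : Odd (orderOf φ)) : ∃ l m, Lin φ l m := by
  have h0 : ∀ s, (s.b = 0 → (φ s).b = 0) ∧ (s.a = 0 → (φ s).a = 0) :=
    odd_ind ho (P := fun φ : MulAut T3 => ∀ s : T3, (s.b = 0 → (φ s).b = 0) ∧ (s.a = 0 → (φ s).a = 0))
      (fun s => ⟨id, id⟩) (fun a b ha hb s => ⟨fun e => (ha _).1 ((hb s).1 e),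
        fun e => (ha _).2 ((hb s).2 e)⟩) fun s => by
      rcases aut_cases φ with h | h
      · exact ⟨fun e => (h _).1 ((h s).1 e), fun e => (h _).2 ((h s).2 e)⟩
      · exact ⟨fun e => (h _).2 ((h s).1 e), fun e => (h _).1 ((h s).2 e)⟩
  have c : ∀ x y, φ x * φ y = φ y * φ x ↔ x * y = y * x := fun x y => by
    rw [← map_mul, ← map_mul, φ.injective.eq_iff]
  have hz : ∀ s, (φ s).a = 0 → (φ s).b = 0 → s.a = 0 ∧ s.b = 0 := fun s e e' =>
    Z_iff s ((c _ _).1 (cen_Z _ _ e e').symm) ((c _ _).1 (cen_Z _ _ e e').symm)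
  obtain ⟨l, l0, hl⟩ := sect ho (D := fun _ => True) (κ := T3.a) (f := fun x => (φ ⟨x, 0, 0⟩).a)
    (fun _ _ => trivial) (fun s _ => by
      rw [(by decide +kernel : ∀ s : T3, s = ⟨s.a, 0, 0⟩ * ⟨0, s.b, s.c + s.a * s.b⟩) s, map_mul,
        T3.mul_def, T3.mul_def, (h0 ⟨0, _, _⟩).2 rfl]
      simp)
    (fun x y => by
      rw [show (⟨x + y, 0, 0⟩ : T3) = ⟨x, 0, 0⟩ * ⟨y, 0, 0⟩ by simp [T3.mul_def], map_mul]; rfl)
    fun x e => (hz _ e ((h0 _).1 rfl)).1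
  obtain ⟨m, m0, hm⟩ := sect ho (D := fun _ => True) (κ := T3.b) (f := fun x => (φ ⟨0, x, 0⟩).b)
    (fun _ _ => trivial) (fun s _ => by
      rw [(by decide +kernel : ∀ s : T3, s = ⟨0, s.b, 0⟩ * ⟨s.a, 0, s.c⟩) s, map_mul,
        T3.mul_def, T3.mul_def, (h0 ⟨_, 0, _⟩).1 rfl]
      simp)
    (fun x y => by
      rw [show (⟨0, x + y, 0⟩ : T3) = ⟨0, x, 0⟩ * ⟨0, y, 0⟩ by simp [T3.mul_def], map_mul]; rfl)
    fun x e => (hz _ ((h0 _).2 rfl) e).2
  refine ⟨l, m, l0, m0, fun s => ⟨hl s trivial, hm s trivial, fun e e' => ?_⟩⟩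
  rw [(by decide +kernel : ∀ s : T3, s.a = 0 → s.b = 0 → s = ⟨s.c, 0, 0⟩ * ⟨0, 1, 0⟩ *
    (⟨s.c, 0, 0⟩ : T3)⁻¹ * (⟨0, 1, 0⟩ : T3)⁻¹) s e e', map_mul, map_mul, map_mul, map_inv, map_inv,
    (by decide +kernel : ∀ x y : T3, (x * y * x⁻¹ * y⁻¹).c = x.a * y.b + x.b * y.a),
    (by decide +kernel : ∀ x y : T3, (x * y * x⁻¹ * y⁻¹).c = x.a * y.b + x.b * y.a),
    hl _ trivial, hl _ trivial, hm _ trivial, hm _ trivial]
  ring

end P3
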